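import Groth.Agent.Lib.JacCrit.FlatRegular
import Groth.Agent.Lib.Cyc.LocalDim
import Groth.Agent.Lib.TopDim.Basic
import Mathlib.FieldTheory.Perfect
import Mathlib.RingTheory.Smooth.Field

/-!
# Smoothness and regularity for schemes locally of finite type over a field
-/

universe u

open CategoryTheory AlgebraicGeometry

namespace Groth.Agent.Lib.JacCrit.OverField

/-- Over a locally Noetherian base, locally of finite type is locally of finite presentation. -/
theorem locallyOfFinitePresentation {X Y : Scheme.{u}} (f : X ⟶ Y) [IsLocallyNoetherian Y]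
    [LocallyOfFiniteType f] : LocallyOfFinitePresentation f := by
  rw [HasRingHomProperty.iff_appLE (P := @LocallyOfFinitePresentation)]
  intro V U e
  letI := (f.appLE V.1 U.1 e).hom.toAlgebra
  haveI : IsNoetherianRing Γ(Y, V.1) := IsLocallyNoetherian.component_noetherian V
  haveI : Algebra.FiniteType Γ(Y, V.1) Γ(X, U.1) :=
    HasRingHomProperty.appLE @LocallyOfFiniteType f inferInstance V U e
  exact (Algebra.FinitePresentation.of_finiteType.mp ‹_› :
    Algebra.FinitePresentation Γ(Y, V.1) Γ(X, U.1))

variable {K : Type u} [Field K] {X : Scheme.{u}} (f : X ⟶ Spec (CommRingCat.of K))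

theorem isField_top : IsField Γ(Spec (CommRingCat.of K), ⊤) :=
  MulEquiv.isField (Field.toIsField K)
    (Scheme.ΓSpecIso (CommRingCat.of K)).commRingCatIsoToRingEquiv.toMulEquiv

/-- Stalk maps to the spectrum of a field are flat. -/
theorem flat_stalkMap (x : X) : (f.stalkMap x).hom.Flat := by
  letI := (f.stalkMap x).hom.toAlgebra
  have hfield : IsField ((Spec (CommRingCat.of K)).presheaf.stalk (f x)) := by
    letI := (Spec (CommRingCat.of K)).presheaf.algebra_section_stalk (U := ⊤) ⟨f x, trivial⟩
    haveI := (isAffineOpen_top (Spec (CommRingCat.of K))).isLocalization_stalk ⟨f x, trivial⟩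
    have hb := IsField.localization_map_bijective
      (M := ((isAffineOpen_top (Spec (CommRingCat.of K))).primeIdealOf ⟨f x, trivial⟩).asIdeal.primeCompl)
      (Rₘ := (Spec (CommRingCat.of K)).presheaf.stalk (f x))
      (fun h => h (Ideal.zero_mem _)) (isField_top (K := K))
    exact (RingEquiv.ofBijective _ hb).symm.toMulEquiv.isField (isField_top (K := K))
  letI := hfield.toField
  exact (inferInstance : Module.Flat ((Spec (CommRingCat.of K)).presheaf.stalk (f x))
    (X.presheaf.stalk x))

section

variable [LocallyOfFiniteType f] [LocallyOfFinitePresentation f] {U : X.Opens} (hU : IsAffineOpen U)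
  (x : X) (hx : x ∈ U)

/-- The regularity of smooth points. -/
theorem isRegularLocalRing_stalk (h : x ∈ f.smoothLocus) :
    IsRegularLocalRing (X.presheaf.stalk x) := by
  obtain ⟨U, hU, hxU, -⟩ := Kaehler.BaseChange.exists_affine_le (W := (⊤ : X.Opens)) (x := x) trivial
  have e : U ≤ f ⁻¹ᵁ ⊤ := fun _ _ => trivial
  letI := (isField_top (K := K)).toField
  letI := (f.appLE ⊤ U e).hom.toAlgebra
  haveI : Algebra.FiniteType Γ(Spec (CommRingCat.of K), ⊤) Γ(X, U) :=
    HasRingHomProperty.appLE @LocallyOfFiniteType f inferInstance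
      ⟨⊤, isAffineOpen_top _⟩ ⟨U, hU⟩ e
  haveI : Algebra.IsSmoothAt Γ(Spec (CommRingCat.of K), ⊤) (hU.primeIdealOf ⟨x, hxU⟩).asIdeal :=
    (formallySmooth_stalkMap_iff ⊤ (isAffineOpen_top _) U hU e hxU).mp h
  haveI := RegularOfSmooth.isRegularLocalRing Γ(Spec (CommRingCat.of K), ⊤)
    (hU.primeIdealOf ⟨x, hxU⟩).asIdeal
  letI := X.presheaf.algebra_section_stalk ⟨x, hxU⟩
  haveI := hU.isLocalization_stalk ⟨x, hxU⟩
  exact IsRegularLocalRing.of_ringEquiv (IsLocalization.algEquiv
    (hU.primeIdealOf ⟨x, hxU⟩).asIdeal.primeCompl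
    (Localization.AtPrime (hU.primeIdealOf ⟨x, hxU⟩).asIdeal) (X.presheaf.stalk x)).toRingEquiv

/-- Over a perfect field regular points are smooth. -/
theorem mem_smoothLocus_of_isRegular [PerfectField K] (h : IsRegularLocalRing (X.presheaf.stalk x)) :
    x ∈ f.smoothLocus := by
  obtain ⟨U, hU, hxU, -⟩ := Kaehler.BaseChange.exists_affine_le (W := (⊤ : X.Opens)) (x := x) trivial
  have e : U ≤ f ⁻¹ᵁ ⊤ := fun _ _ => trivial
  letI := (isField_top (K := K)).toField
  haveI : PerfectField Γ(Spec (CommRingCat.of K), ⊤) :=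
    PerfectField.of_ringEquiv (Scheme.ΓSpecIso (CommRingCat.of K)).commRingCatIsoToRingEquiv.symm
  letI := (f.appLE ⊤ U e).hom.toAlgebra
  haveI : Algebra.FiniteType Γ(Spec (CommRingCat.of K), ⊤) Γ(X, U) :=
    HasRingHomProperty.appLE @LocallyOfFiniteType f inferInstance
      ⟨⊤, isAffineOpen_top _⟩ ⟨U, hU⟩ e
  rw [Scheme.Hom.mem_smoothLocus,
    formallySmooth_stalkMap_iff ⊤ (isAffineOpen_top _) U hU e hxU]
  set P := (hU.primeIdealOf ⟨x, hxU⟩).asIdeal
  letI := X.presheaf.algebra_section_stalk ⟨x, hxU⟩
  haveI := hU.isLocalization_stalk ⟨x, hxU⟩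
  haveI := h
  haveI : IsRegularLocalRing (Localization.AtPrime P) :=
    IsRegularLocalRing.of_ringEquiv (IsLocalization.algEquiv P.primeCompl
      (X.presheaf.stalk x) (Localization.AtPrime P)).toRingEquiv
  haveI : Algebra.EssFiniteType Γ(X, U) (Localization.AtPrime P) := .of_isLocalization _ P.primeCompl
  haveI : Algebra.EssFiniteType Γ(Spec (CommRingCat.of K), ⊤) (Localization.AtPrime P) :=
    .comp _ Γ(X, U) _
  haveI : Algebra.EssFiniteType (Localization.AtPrime P) P.ResidueField := .of_surjective
    (IsScalarTower.toAlgHom (Localization.AtPrime P) (Localization.AtPrime P) P.ResidueField)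
    IsLocalRing.residue_surjective
  haveI : Algebra.EssFiniteType Γ(Spec (CommRingCat.of K), ⊤) P.ResidueField :=
    .comp _ (Localization.AtPrime P) _
  haveI : Algebra.FormallySmooth Γ(Spec (CommRingCat.of K), ⊤) P.ResidueField :=
    Algebra.FormallySmooth.of_perfectField
  exact Regular.isSmoothAt Γ(Spec (CommRingCat.of K), ⊤) P

end

/-- The fibre dimension over a field is the local dimension. -/
theorem fibreDimAt_eq_localDim (x : X) :
    FlatMor.fibreDimAt f x = FlatMor.localDim X x := by
  haveI : Subsingleton (Spec (CommRingCat.of K) : Scheme.{u}) :=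
    inferInstanceAs (Subsingleton (PrimeSpectrum K))
  rw [FibreDim.Basic.fibreDimAt_eq]
  exact (FibreDim.Basic.localDim_eq_of_isOpenEmbedding
    (IsOpen.isOpenEmbedding_subtypeVal (s := f.base ⁻¹' {f.base x}) (by
      rw [Set.eq_univ_of_forall (s := f.base ⁻¹' {f.base x}) fun y => Subsingleton.elim _ _]
      exact isOpen_univ)) ⟨x, rfl⟩).symm

/-- Irreducible: the local dimension is constant. -/
theorem localDim_eq_of_irreducible [IrreducibleSpace X] [LocallyOfFiniteType f] (x : X) :
    FlatMor.localDim X x = topologicalKrullDim X := by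
  refine le_antisymm (FibreDim.Basic.localDim_le_topologicalKrullDim x) ?_
  have hη := Cyc.FieldDim.topologicalKrullDim_closure f (genericPoint X)
  rw [(genericPoint_spec X).def] at hη
  have hc : topologicalKrullDim (Set.univ : Set X) = topologicalKrullDim X :=
    IsHomeomorph.topologicalKrullDim_eq _ (Homeomorph.Set.univ X).isHomeomorph
  rw [hc] at hη
  rw [hη]
  by_contra hlt
  rw [not_le] at hlt
  rcases hm : (Cyc.FieldDim.fdelta f (genericPoint X)).toNat with _ | m
  · rw [hm] at hlt
    exact absurd hlt (not_lt.mpr (TopDim.Basic.localDim_nonneg x))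
  · rw [hm] at hlt
    have h1 : FlatMor.localDim X x ≤ (m : WithBot ℕ∞) := by
      generalize FlatMor.localDim X x = d at hlt
      induction d with
      | bot => exact bot_le
      | coe d =>
        induction d with
        | top => simp at hlt
        | coe d =>
          have : d < m + 1 := by exact_mod_cast hlt
          exact_mod_cast Nat.lt_succ_iff.mp this
    have h2 := (Cyc.LocalDim.localDim_le_iff f x m).mp h1 _ (genericPoint_specializes x)
    omega

end Groth.Agent.Lib.JacCrit.OverField
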