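import Groth.Agent.Lib.JacCrit.Regular
import Mathlib.RingTheory.Smooth.Field
import Mathlib.RingTheory.LocalRing.Module
import Mathlib.RingTheory.Filtration
import Mathlib.RingTheory.KrullDimension.NonZeroDivisors

/-!
# Free differentials in characteristic zero

A Noetherian local ring with residue characteristic zero having derivations dual to a system of
generators of its maximal ideal is regular.
-/

universe u

open IsLocalRing TensorProduct

namespace Groth.Agent.Lib.JacCrit.CharZero

/-- A derivation with `D x ∈ I` for the generator `x` of `I` descends. -/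
theorem exists_descend {R : Type u} [CommRing R] (a : R) (D : Derivation ℤ R R) (ha : D a = 0) :
    ∃ D' : Derivation ℤ (R ⧸ Ideal.span {a}) (R ⧸ Ideal.span {a}),
      ∀ r, D' (Ideal.Quotient.mk _ r) = Ideal.Quotient.mk _ (D r) := by
  set π := Ideal.Quotient.mk (Ideal.span {a})
  have hπ : Function.Surjective π := Ideal.Quotient.mk_surjective
  let f := fun q => π (D (Function.surjInv hπ q))
  have hf : ∀ r, f (π r) = π (D r) := fun r => by
    obtain ⟨c, hc⟩ := Ideal.mem_span_singleton'.mp
      (Ideal.Quotient.eq.mp (Function.surjInv_eq hπ (π r)))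
    refine Ideal.Quotient.eq.mpr (Ideal.mem_span_singleton'.mpr ⟨D c, ?_⟩)
    rw [← map_sub, ← hc, D.leibniz, ha, smul_zero, zero_add, smul_eq_mul, mul_comm]
  refine ⟨Derivation.mk' (AddMonoidHom.toIntLinearMap
    { toFun := f
      map_zero' := by rw [← map_zero π, hf]; simp
      map_add' := fun x y => by
        obtain ⟨x, rfl⟩ := hπ x; obtain ⟨y, rfl⟩ := hπ y
        rw [← map_add, hf, hf, hf, map_add, map_add] }) ?_, fun r => hf r⟩
  intro x y
  obtain ⟨x, rfl⟩ := hπ x; obtain ⟨y, rfl⟩ := hπ y
  change f _ = π x • f _ + π y • f _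
  rw [← map_mul, hf, hf, hf, D.leibniz]
  simp

/-- An element with a derivation taking the value one on it is a nonzerodivisor. -/
theorem mem_nonZeroDivisors {R : Type u} [CommRing R] [IsLocalRing R] [IsNoetherianRing R]
    (hu : ∀ n : ℕ, IsUnit ((n + 1 : ℕ) : R)) (D : Derivation ℤ R R) {x : R}
    (hx : x ∈ maximalIdeal R) (hD : D x = 1) : x ∈ nonZeroDivisors R := by
  rw [mem_nonZeroDivisors_iff_right]
  intro y hy
  have h : ∀ n, ∃ z, y = z * x ^ n ∧ z * x ^ (n + 1) = 0 := by
    intro n
    induction n with
    | zero => exact ⟨y, by simp, by simpa using hy⟩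
    | succ n ih =>
      obtain ⟨z, rfl, hz⟩ := ih
      obtain ⟨v, hv⟩ := hu n
      have h1 := congrArg D hz
      rw [D.leibniz, D.leibniz_pow, hD, map_zero] at h1
      simp only [Nat.add_sub_cancel, smul_eq_mul, nsmul_eq_mul, mul_one] at h1
      have h2 : (v : R) * (z * x ^ n) = -(x ^ (n + 1) * D z) := by
        rw [hv]; linear_combination h1
      have h3 : z * x ^ n = -((↑v⁻¹ : R) * D z) * x ^ (n + 1) := by
        rw [← Units.inv_mul_cancel_left v (z * x ^ n), h2]; ring
      refine ⟨_, h3, ?_⟩
      rw [pow_succ x (n + 1), ← mul_assoc, ← h3]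
      linear_combination hz
  rw [← Submodule.mem_bot R, ← Ideal.iInf_pow_eq_bot_of_isLocalRing _
    (maximalIdeal.isMaximal R).ne_top, Ideal.mem_iInf]
  intro n
  obtain ⟨z, rfl, -⟩ := h n
  exact Ideal.mul_mem_left _ z (Ideal.pow_mem_pow hx n)

/-- Dual derivations force the dimension to be the number of generators. -/
theorem le_ringKrullDim : ∀ (n : ℕ) {R : Type u} [CommRing R] [IsLocalRing R] [IsNoetherianRing R]
    (_ : ∀ m : ℕ, IsUnit ((m + 1 : ℕ) : R)) (x : Fin n → R)
    (_ : Ideal.span (Set.range x) = maximalIdeal R) (D : Fin n → Derivation ℤ R R)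
    (_ : ∀ i j, D i (x j) = if i = j then 1 else 0), (n : WithBot ℕ∞) ≤ ringKrullDim R
  | 0, R, _, _, _, _, _, _, _, _ => by simpa using ringKrullDim_nonneg_of_nontrivial (R := R)
  | n + 1, R, _, _, _, hu, x, hx, D, hD => by
    have hx0 : x 0 ∈ maximalIdeal R := hx ▸ Ideal.subset_span ⟨0, rfl⟩
    have hne : Ideal.span {x 0} ≠ ⊤ := fun h =>
      (maximalIdeal.isMaximal R).ne_top
        (top_le_iff.mp (h ▸ (Ideal.span_singleton_le_iff_mem _).mpr hx0))
    haveI : Nontrivial (R ⧸ Ideal.span {x 0}) := Ideal.Quotient.nontrivial_iff.mpr hne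
    set π := Ideal.Quotient.mk (Ideal.span {x 0})
    haveI : IsLocalRing (R ⧸ Ideal.span {x 0}) := .of_surjective' π Ideal.Quotient.mk_surjective
    have h := ringKrullDim_quotient_succ_le_of_nonZeroDivisor
      (mem_nonZeroDivisors hu (D 0) hx0 (by simp [hD]))
    refine le_trans ?_ h
    have hd : ∀ i : Fin n, ∃ D' : Derivation ℤ (R ⧸ Ideal.span {x 0}) (R ⧸ Ideal.span {x 0}),
        ∀ r, D' (π r) = π (D i.succ r) := fun i => exists_descend _ _ (by simp [hD])
    choose D' hD' using hd
    have hm : Ideal.span (Set.range fun i : Fin n => π (x i.succ)) =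
        maximalIdeal (R ⧸ Ideal.span {x 0}) := by
      have h1 : maximalIdeal (R ⧸ Ideal.span {x 0}) = (maximalIdeal R).map π := by
        refine (IsLocalRing.eq_maximalIdeal ?_).symm
        refine (Ideal.map_eq_top_or_isMaximal_of_surjective π Ideal.Quotient.mk_surjective
          (maximalIdeal.isMaximal R)).resolve_left fun htop => ?_
        have := congrArg (Ideal.comap π) htop
        rw [Ideal.comap_map_of_surjective π Ideal.Quotient.mk_surjective, Ideal.comap_top,
          ← RingHom.ker_eq_comap_bot, Ideal.mk_ker, sup_eq_left.mpr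
            ((Ideal.span_singleton_le_iff_mem _).mpr hx0)] at this
        exact (maximalIdeal.isMaximal R).ne_top this
      rw [h1, ← hx, Ideal.map_span]
      refine le_antisymm (Ideal.span_mono ?_) (Ideal.span_le.mpr ?_)
      · rintro _ ⟨i, rfl⟩; exact ⟨_, ⟨i.succ, rfl⟩, rfl⟩
      · rintro _ ⟨_, ⟨i, rfl⟩, rfl⟩
        induction i using Fin.cases with
        | zero =>
          have h0 : π (x 0) = 0 :=
            Ideal.Quotient.eq_zero_iff_mem.mpr (Ideal.mem_span_singleton_self _)
          rw [h0]; exact zero_mem _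
        | succ i => exact Ideal.subset_span ⟨i, rfl⟩
    have := le_ringKrullDim n (fun m => by simpa using (hu m).map π)
      (fun i => π (x i.succ)) hm D' (fun i j => (hD' i _).trans (by rw [hD]; simp only [Fin.succ_inj]; split_ifs <;> simp))
    push_cast
    exact add_le_add this le_rfl

/-- With formally smooth residue field, a generating set of the cotangent space has independent
differentials: free differentials in characteristic zero give regularity. -/
theorem isRegularLocalRing (k : Type u) [Field k] [CharZero k] {R : Type u} [CommRing R]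
    [IsLocalRing R] [IsNoetherianRing R] [Algebra k R]
    [Algebra.FormallySmooth k (ResidueField R)] [Module.Free R (Ω[R⁄k])]
    [Module.Finite R (Ω[R⁄k])] : IsRegularLocalRing R := by
  classical
  set m := maximalIdeal R
  obtain ⟨s, hs_card, hs⟩ :=
    Submodule.FG.exists_span_finset_card_eq_spanFinrank (IsNoetherian.noetherian m)
  set r := m.spanFinrank
  let e : Fin r ≃ s := (Fintype.equivFinOfCardEq ((Fintype.card_coe s).trans hs_card)).symm
  let x : Fin r → R := fun i => (e i : R)
  have hrange : Set.range x = s := by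
    ext y; exact ⟨fun ⟨i, hi⟩ => hi ▸ (e i).2, fun hy => ⟨e.symm ⟨y, hy⟩, by simp [x]⟩⟩
  have hxs : Ideal.span (Set.range x) = m := by rw [hrange]; exact hs
  have hxm : ∀ i, x i ∈ m := fun i => hxs ▸ Ideal.subset_span ⟨i, rfl⟩
  -- a section of `R/m² → κ`
  let q : (R ⧸ m ^ 2) →ₐ[k] ResidueField R :=
    Ideal.Quotient.liftₐ (m ^ 2) (IsScalarTower.toAlgHom k R (ResidueField R)) fun a ha =>
      (IsLocalRing.residue_eq_zero_iff a).mpr (Ideal.pow_le_self two_ne_zero ha)
  have hq : Function.Surjective q := fun y => by
    obtain ⟨y, rfl⟩ := IsLocalRing.residue_surjective y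
    exact ⟨Ideal.Quotient.mk _ y, rfl⟩
  have hker : RingHom.ker q.toRingHom = m.cotangentIdeal := by
    ext y
    obtain ⟨y, rfl⟩ := Ideal.Quotient.mk_surjective y
    rw [RingHom.mem_ker]
    change residue R y = 0 ↔ _
    rw [IsLocalRing.residue_eq_zero_iff]
    exact Ideal.mk_mem_cotangentIdeal.symm
  let σ := Algebra.FormallySmooth.liftOfSurjective (AlgHom.id k (ResidueField R)) q hq
    ⟨2, by
      change RingHom.ker q.toRingHom ^ 2 = 0
      rw [hker, Ideal.zero_eq_bot]; exact Ideal.cotangentIdeal_square m⟩
  have hσ : ∀ y, q (σ y) = y :=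
    Algebra.FormallySmooth.liftOfSurjective_apply _ q hq _
  have hmem : ∀ y : R, Ideal.Quotient.mk (m ^ 2) y - σ (residue R y) ∈ m.cotangentIdeal := fun y => by
    rw [← hker, RingHom.mem_ker]
    change q _ = 0
    rw [map_sub, hσ]
    exact sub_self _
  let δ : R → m.Cotangent := fun y => m.cotangentEquivIdeal.symm ⟨_, hmem y⟩
  have hδ : ∀ y, ((m.cotangentEquivIdeal (δ y) : m.cotangentIdeal) : R ⧸ m ^ 2) =
      Ideal.Quotient.mk (m ^ 2) y - σ (residue R y) := fun y => by
    simp only [δ, LinearEquiv.apply_symm_apply]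
  let Dc : Derivation k R m.Cotangent := Derivation.mk'
    { toFun := δ
      map_add' := fun a b => by
        refine m.cotangentEquivIdeal.injective (Subtype.ext ?_)
        rw [map_add, Submodule.coe_add, hδ, hδ, hδ, map_add, map_add, map_add]
        ring
      map_smul' := fun c a => by
        refine m.cotangentEquivIdeal.injective (Subtype.ext ?_)
        rw [RingHom.id_apply, ← IsScalarTower.algebraMap_smul R c (δ a), map_smul,
          Submodule.coe_smul_of_tower, hδ, hδ, Algebra.smul_def, map_mul, map_mul, map_mul]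
        have h1 : residue R (algebraMap k R c) = algebraMap k (ResidueField R) c := rfl
        rw [h1, σ.commutes, Algebra.smul_def]
        change Ideal.Quotient.mk (m ^ 2) (algebraMap k R c) * _ -
          Ideal.Quotient.mk (m ^ 2) (algebraMap k R c) * _ = _
        rw [← mul_sub]
        rfl } fun a b => by
      refine m.cotangentEquivIdeal.injective (Subtype.ext ?_)
      change ((m.cotangentEquivIdeal (δ (a * b)) : m.cotangentIdeal) : R ⧸ m ^ 2) = _
      rw [map_add, map_smul, map_smul, Submodule.coe_add, Submodule.coe_smul_of_tower,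
        Submodule.coe_smul_of_tower]
      change _ = Ideal.Quotient.mk (m ^ 2) a * _ + Ideal.Quotient.mk (m ^ 2) b * _
      change _ = _ * ((m.cotangentEquivIdeal (δ b) : m.cotangentIdeal) : R ⧸ m ^ 2) +
        _ * ((m.cotangentEquivIdeal (δ a) : m.cotangentIdeal) : R ⧸ m ^ 2)
      rw [hδ, hδ, hδ, map_mul, map_mul, map_mul]
      have h := Ideal.mul_mem_mul (hmem a) (hmem b)
      rw [← pow_two, Ideal.cotangentIdeal_square, Ideal.mem_bot] at h
      linear_combination -h
  have hDx : ∀ y (hy : y ∈ m), Dc y = m.toCotangent ⟨y, hy⟩ := fun y hy => by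
    refine m.cotangentEquivIdeal.injective (Subtype.ext ?_)
    change ((m.cotangentEquivIdeal (δ y) : m.cotangentIdeal) : R ⧸ m ^ 2) = _
    rw [hδ, (IsLocalRing.residue_eq_zero_iff y).mpr hy, map_zero, sub_zero]
    exact (Ideal.cotangentEquivIdeal_apply m _).symm ▸ rfl
  let ℓ : (Fin r → R) →ₗ[R] Ω[R⁄k] := Fintype.linearCombination R fun i => KaehlerDifferential.D k R (x i)
  have hℓ : ∀ i, ℓ (Pi.single i 1) = KaehlerDifferential.D k R (x i) := fun i => by
    simp [ℓ, Fintype.linearCombination_apply_single]
  let g : (Fin r → R) →ₗ[R] CotangentSpace R := Dc.liftKaehlerDifferential ∘ₗ ℓ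
  have hg : ∀ i, g (Pi.single i 1) = m.toCotangent ⟨x i, hxm i⟩ := fun i => by
    change Dc.liftKaehlerDifferential (ℓ (Pi.single i 1)) = _
    rw [hℓ, Derivation.liftKaehlerDifferential_comp_D, hDx]
  let G : ResidueField R ⊗[R] (Fin r → R) →ₗ[ResidueField R] CotangentSpace R := g.liftBaseChange _
  have hGsurj : Function.Surjective G := by
    intro v
    obtain ⟨⟨y, hy⟩, rfl⟩ := m.toCotangent_surjective v
    obtain ⟨c, hc⟩ := (Submodule.mem_span_range_iff_exists_fun R).mp
      (hxs.symm.le hy : y ∈ Submodule.span R (Set.range x))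
    refine ⟨(1 : ResidueField R) ⊗ₜ (∑ i, c i • Pi.single i 1), ?_⟩
    simp only [G, LinearMap.liftBaseChange_tmul, one_smul, map_sum, map_smul, hg]
    simp only [← map_smul, ← map_sum]
    congr 1
    exact Subtype.ext (by simpa [smul_eq_mul] using hc)
  have hdim : Module.finrank (ResidueField R) (ResidueField R ⊗[R] (Fin r → R)) =
      Module.finrank (ResidueField R) (CotangentSpace R) := by
    rw [Module.finrank_baseChange, Module.finrank_fintype_fun_eq_card, Fintype.card_fin]
    exact spanFinrank_maximalIdeal_eq_finrank_cotangentSpace R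
  have hGinj : Function.Injective G :=
    (LinearMap.injective_iff_surjective_of_finrank_eq_finrank hdim).mpr hGsurj
  have hℓinj : Function.Injective (ℓ.lTensor (ResidueField R)) := by
    have hfac : ∀ z, G z = (Dc.liftKaehlerDifferential.liftBaseChange (ResidueField R))
        (ℓ.lTensor (ResidueField R) z) := fun z => by
      induction z with
      | zero => simp
      | add a b ha hb => rw [map_add, map_add, map_add, ha, hb]
      | tmul a b => simp [G, g]
    intro a b hab
    exact hGinj (by rw [hfac, hfac, hab])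
  obtain ⟨l, hl⟩ := (IsLocalRing.split_injective_iff_lTensor_residueField_injective ℓ).mpr hℓinj
  let D : Fin r → Derivation ℤ R R := fun i =>
    (((LinearMap.proj i).comp l).compDer (KaehlerDifferential.D k R)).restrictScalars ℤ
  have hD : ∀ i j, D i (x j) = if i = j then 1 else 0 := fun i j => by
    change l (KaehlerDifferential.D k R (x j)) i = _
    rw [← hℓ, ← LinearMap.comp_apply, hl, LinearMap.id_apply, Pi.single_apply]
  have hu : ∀ j : ℕ, IsUnit ((j + 1 : ℕ) : R) := fun j => by
    have h : IsUnit ((j + 1 : ℕ) : k) := by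
      rw [isUnit_iff_ne_zero]; exact_mod_cast j.succ_ne_zero
    simpa using h.map (algebraMap k R)
  exact IsRegularLocalRing.of_spanFinrank_maximalIdeal_le R (le_ringKrullDim r hu x hxs D hD)

/-- The criterion. -/
theorem isSmoothAt_iff (k A : Type u) [Field k] [CharZero k] [CommRing A]
    [Algebra k A] [Algebra.FiniteType k A] (q : Ideal A) [q.IsPrime] :
    Algebra.IsSmoothAt k q ↔
      Module.Free (Localization.AtPrime q) (Ω[Localization.AtPrime q⁄k]) := by
  haveI : IsNoetherianRing A := Algebra.FiniteType.isNoetherianRing k A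
  haveI : IsNoetherianRing (Localization.AtPrime q) :=
    IsLocalization.isNoetherianRing q.primeCompl _ inferInstance
  haveI : Algebra.EssFiniteType A (Localization.AtPrime q) := .of_isLocalization _ q.primeCompl
  haveI : Algebra.EssFiniteType k (Localization.AtPrime q) := .comp k A _
  constructor
  · intro h
    haveI : Algebra.FormallySmooth k (Localization.AtPrime q) := h
    haveI : Module.Projective (Localization.AtPrime q) (Ω[Localization.AtPrime q⁄k]) := inferInstance
    exact Module.free_of_flat_of_isLocalRing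
  · intro h
    haveI : Algebra.EssFiniteType (Localization.AtPrime q) q.ResidueField := .of_surjective
      (IsScalarTower.toAlgHom (Localization.AtPrime q) (Localization.AtPrime q) q.ResidueField)
      IsLocalRing.residue_surjective
    haveI : Algebra.EssFiniteType k q.ResidueField := .comp k (Localization.AtPrime q) _
    haveI : Algebra.FormallySmooth k q.ResidueField :=
      Algebra.FormallySmooth.of_perfectField (K := k) (L := q.ResidueField)
    haveI : Algebra.FormallySmooth k (ResidueField (Localization.AtPrime q)) :=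
      (inferInstance : Algebra.FormallySmooth k q.ResidueField)
    haveI := isRegularLocalRing k (R := Localization.AtPrime q)
    exact Regular.isSmoothAt k q

end Groth.Agent.Lib.JacCrit.CharZero
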