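import Groth.Agent.Lib.Regular.Quotient
import Mathlib.RingTheory.Smooth.Local
import Mathlib.RingTheory.Smooth.Locus
import Mathlib.RingTheory.Etale.Kaehler
import Mathlib.RingTheory.RegularLocalRing.Polynomial

/-!
# Regular essentially finite type local algebras with formally smooth residue field are smooth
-/

universe u

open IsLocalRing TensorProduct

namespace Groth.Agent.Lib.JacCrit.Regular

section Gens

variable {P R : Type u} [CommRing P] [IsRegularLocalRing P] [CommRing R] [IsRegularLocalRing R]
  [Algebra P R]

/-- A regular quotient of a regular local ring is cut out by elements which are independent in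
the cotangent space. -/
theorem exists_gens_linearIndependent (h : Function.Surjective (algebraMap P R)) :
    ∃ (r : ℕ) (a : Fin r → P), Ideal.span (Set.range a) = RingHom.ker (algebraMap P R) ∧
      ∃ ha : ∀ i, a i ∈ maximalIdeal P,
        LinearIndependent (ResidueField P) fun i => (maximalIdeal P).toCotangent ⟨a i, ha i⟩ := by
  classical
  set I := RingHom.ker (algebraMap P R) with hI
  set m := maximalIdeal P
  have hIm : I ≤ m := IsLocalRing.le_maximalIdeal (RingHom.ker_ne_top _)
  let W : Set (CotangentSpace P) := Set.range fun x : I => m.toCotangent ⟨x.1, hIm x.2⟩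
  obtain ⟨b, hbW, hbspan, hbli⟩ := exists_linearIndependent (ResidueField P) W
  have hli : LinearIndepOn (ResidueField P) id b := hbli
  set B := hli.extend (Set.subset_univ _)
  have hbB : b ⊆ B := hli.subset_extend _
  have hB : LinearIndepOn (ResidueField P) id B := hli.linearIndepOn_extend _
  have hBfin : B.Finite := hB.setFinite
  have hbfin : b.Finite := hBfin.subset hbB
  have hsp : Submodule.span (ResidueField P) B = ⊤ :=
    (hli.span_extend_eq_span (Set.subset_univ _)).trans Submodule.span_univ
  have hcard : hBfin.toFinset.card = (maximalIdeal P).spanFinrank := by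
    have h := finrank_span_finset_eq_card (R := ResidueField P) (s := hBfin.toFinset)
      (by rw [Set.Finite.coe_toFinset]; exact hB)
    rw [Set.Finite.coe_toFinset, hsp, finrank_top] at h
    rw [spanFinrank_maximalIdeal_eq_finrank_cotangentSpace, h]
  choose l hl using m.toCotangent_surjective
  have hlI : ∀ w ∈ b, ∃ x : I, m.toCotangent ⟨x.1, hIm x.2⟩ = w := fun w hw => hbW hw
  choose! lI hlI using hlI
  let t : Finset P := (hBfin.toFinset \ hbfin.toFinset).image fun w => (l w : P)
  let s : Finset P := hbfin.toFinset.image fun w => ((lI w : I) : P)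
  -- the lifts generate the maximal ideal
  let L : CotangentSpace P → m := fun w => if w ∈ b then ⟨(lI w).1, hIm (lI w).2⟩ else l w
  have hL : ∀ w, m.toCotangent (L w) = w := fun w => by
    by_cases hw : w ∈ b
    · simp only [L, if_pos hw]; exact hlI w hw
    · simp only [L, if_neg hw]; exact hl w
  have hst : Ideal.span ((s ∪ t : Finset P) : Set P) = m := by
    have himg : m.toCotangent '' (L '' B) = B := by rw [Set.image_image]; simp [hL]
    have hS : Submodule.span P (L '' B) = ⊤ :=
      CotangentSpace.span_image_eq_top_iff.mp (by rw [himg]; exact hsp)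
    have := congrArg (Submodule.map m.subtype) hS
    rw [Submodule.map_span, Submodule.map_subtype_top] at this
    refine Eq.trans ?_ this
    congr 1
    ext x
    simp only [Finset.coe_union, Set.mem_union, Finset.coe_image, Set.mem_image, s, t,
      Finset.coe_sdiff, Set.Finite.coe_toFinset, Set.mem_sdiff, Submodule.coe_subtype]
    constructor
    · rintro (⟨w, hw, rfl⟩ | ⟨w, hw, rfl⟩)
      · exact ⟨_, ⟨w, hbB hw, rfl⟩, by simp only [L, if_pos hw]⟩
      · exact ⟨_, ⟨w, hw.1, rfl⟩, by simp only [L, if_neg hw.2]⟩
    · rintro ⟨_, ⟨w, hw, rfl⟩, rfl⟩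
      by_cases hwb : w ∈ b
      · exact Or.inl ⟨w, hwb, by simp only [L, if_pos hwb]⟩
      · exact Or.inr ⟨w, ⟨hw, hwb⟩, by simp only [L, if_neg hwb]⟩
  have hst_card : s.card + t.card ≤ (maximalIdeal P).spanFinrank := by
    rw [← hcard, ← Finset.card_sdiff_add_card_eq_card
      (Set.Finite.toFinset_subset_toFinset.mpr hbB : hbfin.toFinset ⊆ hBfin.toFinset)]
    have h1 : t.card ≤ _ := Finset.card_image_le
    have h2 : s.card ≤ _ := Finset.card_image_le
    omega
  obtain ⟨hreg, hdimJ, hdimP⟩ := Regular.Quotient.quotient_of_gens s t hst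
    (by rw [← IsRegularLocalRing.spanFinrank_maximalIdeal]; exact_mod_cast hst_card)
  set J := Ideal.span (s : Set P)
  have hJI : J ≤ I := Ideal.span_le.mpr fun x hx => by
    obtain ⟨w, -, rfl⟩ := Finset.mem_image.mp hx
    exact (lI w).2
  -- dimension of `R` is at least the number of the remaining generators
  have hR : t.card ≤ (maximalIdeal R).spanFinrank := by
    obtain ⟨u, hu_card, hu⟩ := Submodule.FG.exists_span_finset_card_eq_spanFinrank
      (IsNoetherian.noetherian (maximalIdeal R))
    have hu' : ∀ y ∈ u, ∃ x : m, algebraMap P R x.1 = y := fun y hy => by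
      obtain ⟨x, hx⟩ := h y
      refine ⟨⟨x, fun hxu => ?_⟩, hx⟩
      have : y ∈ maximalIdeal R := hu ▸ Submodule.subset_span hy
      exact this (hx ▸ hxu.map _)
    choose! v hv using hu'
    have hgen : Submodule.span (ResidueField P) W ⊔
        Submodule.span (ResidueField P) (m.toCotangent '' (v '' (u : Set R))) = ⊤ := by
      rw [← Submodule.span_union, eq_top_iff]
      rintro c -
      obtain ⟨x, rfl⟩ := m.toCotangent_surjective c
      have hxR : algebraMap P R x.1 ∈ maximalIdeal R := by
        intro hunit
        obtain ⟨y, hy⟩ := h (hunit.unit⁻¹ : Rˣ)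
        have h1 : x.1 * y - 1 ∈ I := by
          rw [hI, RingHom.mem_ker, map_sub, map_mul, hy, map_one, sub_eq_zero]
          exact hunit.mul_val_inv
        have : (1 : P) ∈ m := by
          have := sub_mem (m.mul_mem_right y x.2) (hIm h1)
          rwa [sub_sub_cancel] at this
        exact (maximalIdeal.isMaximal P).ne_top ((Ideal.eq_top_iff_one _).mpr this)
      rw [← hu] at hxR
      obtain hxR := Submodule.mem_span_finset.mp hxR
      obtain ⟨c, -, hc⟩ := hxR
      choose c' hc' using fun y => h (c y)
      let z : m := ∑ y ∈ u, c' y • v y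
      have hz : x.1 - z.1 ∈ I := by
        rw [hI, RingHom.mem_ker, map_sub, sub_eq_zero, ← hc]
        simp only [z, Submodule.coe_sum, Submodule.coe_smul_of_tower, smul_eq_mul, map_sum, map_mul]
        refine Finset.sum_congr rfl fun y hy => ?_
        rw [hc', hv y hy]
      have hx : x = ⟨x.1 - z.1, hIm hz⟩ + z := Subtype.ext (sub_add_cancel x.1 z.1).symm
      rw [hx, map_add]
      refine add_mem (Submodule.subset_span (Or.inl ⟨⟨_, hz⟩, rfl⟩)) ?_
      rw [map_sum]
      refine Submodule.sum_mem _ fun y hy => ?_
      rw [map_smul, ← IsScalarTower.algebraMap_smul (ResidueField P)]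
      exact Submodule.smul_mem _ _ (Submodule.subset_span (Or.inr ⟨v y, ⟨y, hy, rfl⟩, rfl⟩))
    rw [← hbspan, ← hbfin.coe_toFinset, ← Finset.coe_image, ← Finset.coe_image] at hgen
    have h1 : (maximalIdeal P).spanFinrank ≤
        hbfin.toFinset.card + ((u.image v).image m.toCotangent).card := by
      rw [spanFinrank_maximalIdeal_eq_finrank_cotangentSpace, ← finrank_top, ← hgen,
        ← Submodule.span_union, ← Finset.coe_union]
      exact (finrank_span_finset_le_card _).trans (Finset.card_union_le _ _)
    have h2 : ((u.image v).image m.toCotangent).card ≤ u.card :=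
      Finset.card_image_le.trans Finset.card_image_le
    have h3 : t.card ≤ hBfin.toFinset.card - hbfin.toFinset.card := by
      refine Finset.card_image_le.trans (le_of_eq ?_)
      exact Finset.card_sdiff_of_subset (Set.Finite.toFinset_subset_toFinset.mpr hbB)
    omega
  have hJ : J = I := by
    refine le_antisymm hJI ?_
    by_contra hne
    obtain ⟨x, hxI, hxJ⟩ := SetLike.not_le_iff_exists.mp hne
    have : IsRegularLocalRing (P ⧸ J) := hreg
    have : IsDomain (P ⧸ J) := Regular.Quotient.isDomain _
    let π : (P ⧸ J) →+* R := Ideal.Quotient.lift J (algebraMap P R) fun a ha => hJI ha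
    have hπ : Function.Surjective π :=
      Ideal.Quotient.lift_surjective_of_surjective _ _ h
    have hx0 : Ideal.Quotient.mk J x ∈ nonZeroDivisors (P ⧸ J) :=
      mem_nonZeroDivisors_of_ne_zero fun h0 => hxJ (Ideal.Quotient.eq_zero_iff_mem.mp h0)
    have hlt := ringKrullDim_quotient_succ_le_of_nonZeroDivisor hx0
    let π' : (P ⧸ J) ⧸ Ideal.span {Ideal.Quotient.mk J x} →+* R :=
      Ideal.Quotient.lift _ π fun y hy => by
        obtain ⟨z, rfl⟩ := Ideal.mem_span_singleton.mp hy
        rw [map_mul]
        change algebraMap P R x * _ = 0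
        rw [(RingHom.mem_ker).mp hxI, zero_mul]
    have hπ' : Function.Surjective π' := Ideal.Quotient.lift_surjective_of_surjective _ _ hπ
    have h4 : ringKrullDim R + 1 ≤ ringKrullDim (P ⧸ J) :=
      le_trans (add_le_add (ringKrullDim_le_of_surjective π' hπ') le_rfl) hlt
    rw [hdimJ, ← IsRegularLocalRing.spanFinrank_maximalIdeal] at h4
    norm_cast at h4
    omega
  let e := hbfin.toFinset.equivFin
  refine ⟨_, fun i => ((lI (e.symm i).1 : I) : P), ?_, fun i => hIm (lI (e.symm i).1).2, ?_⟩
  · refine Eq.trans ?_ hJ
    change Ideal.span _ = Ideal.span _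
    congr 1
    ext x
    simp only [Set.mem_range, s, Finset.coe_image, Set.mem_image, Finset.mem_coe]
    constructor
    · rintro ⟨i, rfl⟩; exact ⟨_, (e.symm i).2, rfl⟩
    · rintro ⟨w, hw, rfl⟩; exact ⟨e ⟨w, hw⟩, by rw [Equiv.symm_apply_apply]⟩
  · have : (fun i => (maximalIdeal P).toCotangent
        ⟨((lI (e.symm i).1 : I) : P), hIm (lI (e.symm i).1).2⟩) = fun i => (e.symm i).1 :=
      funext fun i => hlI _ (hbfin.mem_toFinset.mp (e.symm i).2)
    rw [this]
    exact hbli.comp (fun i => ⟨(e.symm i).1, hbfin.mem_toFinset.mp (e.symm i).2⟩)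
      fun i j hij => e.symm.injective (Subtype.ext (congrArg (fun z => z.1) hij))

end Gens

section Main

variable (k : Type u) [CommRing k] {P R : Type u} [CommRing P] [IsRegularLocalRing P]
  [CommRing R] [IsRegularLocalRing R] [Algebra k P] [Algebra k R] [Algebra P R]
  [IsScalarTower k P R]

theorem formallySmooth_of_surjective [Algebra.FormallySmooth k P] [Module.Free P (Ω[P⁄k])]
    [Module.Finite P (Ω[P⁄k])] [Algebra.FormallySmooth k (ResidueField R)]
    (h : Function.Surjective (algebraMap P R)) : Algebra.FormallySmooth k R := by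
  classical
  obtain ⟨r, a, hspan, ha, hli⟩ := exists_gens_linearIndependent h
  set κ := ResidueField R
  have hκ : Function.Surjective (algebraMap P κ) := by
    rw [IsScalarTower.algebraMap_eq P R κ]
    exact IsLocalRing.residue_surjective.comp h
  have hker : RingHom.ker (algebraMap P κ) = maximalIdeal P :=
    IsLocalRing.eq_maximalIdeal (RingHom.ker_isMaximal_of_surjective _ hκ)
  obtain ⟨l, hl⟩ := (Algebra.FormallySmooth.iff_split_injection (R := k) (P := P) (A := κ) hκ).mp
    inferInstance
  rw [Algebra.FormallySmooth.iff_injective_cotangentComplexBaseChange_residueField P h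
    (IsNoetherian.noetherian _)]
  rw [injective_iff_map_eq_zero]
  intro z hz
  have haI : ∀ i, a i ∈ RingHom.ker (algebraMap P R) :=
    fun i => hspan ▸ Ideal.subset_span ⟨i, rfl⟩
  -- every element is a combination of the generators
  let g : Fin r → RingHom.ker (algebraMap P R) := fun i => ⟨a i, haI i⟩
  obtain ⟨c, rfl⟩ : ∃ c : Fin r → P, z = ∑ i, c i • ((1 : κ) ⊗ₜ[P] g i) := by
    clear hz
    induction z with
    | zero => exact ⟨0, by simp⟩
    | add x y hx hy =>
      obtain ⟨c, rfl⟩ := hx; obtain ⟨d, rfl⟩ := hy
      exact ⟨c + d, by simp [add_smul, Finset.sum_add_distrib]⟩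
    | tmul t x =>
      obtain ⟨p, rfl⟩ := hκ t
      have hx : x.1 ∈ Ideal.span (Set.range a) := hspan.symm.le x.2
      obtain ⟨c, hc⟩ := (Submodule.mem_span_range_iff_exists_fun P).mp hx
      refine ⟨p • c, ?_⟩
      have : x = ∑ i, c i • g i := Subtype.ext (by simp [g, ← hc])
      rw [this, TensorProduct.tmul_sum, Algebra.algebraMap_eq_smul_one]
      refine Finset.sum_congr rfl fun i _ => ?_
      rw [TensorProduct.tmul_smul, TensorProduct.smul_tmul', TensorProduct.smul_tmul',
        smul_smul, Pi.smul_apply, smul_eq_mul, mul_comm (c i) p]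
  have hmem : ∀ i, a i ∈ RingHom.ker (algebraMap P κ) := fun i => hker ▸ ha i
  have h0 : ∑ i, c i • KaehlerDifferential.kerCotangentToTensor k P κ
      ((RingHom.ker (algebraMap P κ)).toCotangent ⟨a i, hmem i⟩) = 0 := by
    simp only [map_sum, LinearMap.map_smul_of_tower,
      KaehlerDifferential.cotangentComplexBaseChange_tmul, one_smul] at hz
    exact hz
  have h1 : ∑ i, c i • (RingHom.ker (algebraMap P κ)).toCotangent ⟨a i, hmem i⟩ = 0 := by
    have h2 := congrArg l h0
    simp only [map_sum, map_zero, map_smul] at h2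
    simpa only [show ∀ w, l (KaehlerDifferential.kerCotangentToTensor k P κ w) = w from
      fun w => congr($hl w)] using h2
  have h3 : ∑ i, c i • (maximalIdeal P).toCotangent ⟨a i, ha i⟩ = 0 := by
    have key : ∀ (J : Ideal P) (_ : RingHom.ker (algebraMap P κ) = J) (hJ : ∀ i, a i ∈ J),
        ∑ i, c i • J.toCotangent ⟨a i, hJ i⟩ = 0 := by rintro J rfl hJ; exact h1
    exact key _ hker ha
  have hc : ∀ i, algebraMap P (ResidueField P) (c i) = 0 :=
    Fintype.linearIndependent_iff.mp hli (fun i => algebraMap P (ResidueField P) (c i)) (by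
      simpa only [IsScalarTower.algebraMap_smul] using h3)
  refine Finset.sum_eq_zero fun i _ => ?_
  have : algebraMap P κ (c i) = 0 := by
    rw [← RingHom.mem_ker, hker]
    exact (IsLocalRing.residue_eq_zero_iff _).mp (hc i)
  rw [TensorProduct.smul_tmul', Algebra.smul_def, this, zero_mul, TensorProduct.zero_tmul]

end Main

/-- A regular point with formally smooth residue field of a finite type algebra over a field is a
smooth point. -/
theorem isSmoothAt (k : Type u) [Field k] {A : Type u} [CommRing A] [Algebra k A]
    [Algebra.FiniteType k A] (p : Ideal A) [p.IsPrime]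
    [IsRegularLocalRing (Localization.AtPrime p)] [Algebra.FormallySmooth k p.ResidueField] :
    Algebra.IsSmoothAt k p := by
  obtain ⟨n, f, hf⟩ := Algebra.FiniteType.iff_quotient_mvPolynomial''.mp
    (inferInstance : Algebra.FiniteType k A)
  let q := p.comap f.toRingHom
  haveI : q.IsPrime := Ideal.IsPrime.comap _
  let P := Localization.AtPrime q
  let g : P →ₐ[k] Localization.AtPrime p := IsLocalization.liftAlgHom (M := q.primeCompl)
    (f := (IsScalarTower.toAlgHom k A (Localization.AtPrime p)).comp f) fun x => by
      simpa using IsLocalization.map_units (M := p.primeCompl) (Localization.AtPrime p)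
        ⟨f x.1, x.2⟩
  have hg : Function.Surjective g := by
    intro x
    obtain ⟨x, ⟨s, hs⟩, rfl⟩ := IsLocalization.exists_mk'_eq p.primeCompl x
    obtain ⟨x, rfl⟩ := hf x
    obtain ⟨s, rfl⟩ := hf s
    refine ⟨IsLocalization.mk' (M := q.primeCompl) _ x ⟨s, hs⟩, ?_⟩
    simp [g, IsLocalization.lift_mk', Units.mul_inv_eq_iff_eq_mul, IsUnit.liftRight]
  letI := g.toRingHom.toAlgebra
  haveI : IsScalarTower k P (Localization.AtPrime p) :=
    IsScalarTower.of_algebraMap_eq fun x => (g.commutes x).symm
  haveI : Algebra.FormallyEtale (MvPolynomial (Fin n) k) P := .of_isLocalization q.primeCompl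
  haveI : Algebra.FormallySmooth k P := .comp _ (MvPolynomial (Fin n) k) _
  haveI : Module.Free P (Ω[P⁄k]) :=
    .of_equiv (KaehlerDifferential.tensorKaehlerEquivOfFormallyEtale k (MvPolynomial (Fin n) k) P)
  haveI : Module.Finite P (Ω[P⁄k]) := Module.Finite.equiv
    (KaehlerDifferential.tensorKaehlerEquivOfFormallyEtale k (MvPolynomial (Fin n) k) P)
  haveI : Algebra.FormallySmooth k (ResidueField (Localization.AtPrime p)) :=
    (inferInstance : Algebra.FormallySmooth k p.ResidueField)
  exact formallySmooth_of_surjective k (P := P) (R := Localization.AtPrime p) hg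

end Groth.Agent.Lib.JacCrit.Regular
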