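import Groth.Agent.Lib.JacCrit.SmoothLocal
import Groth.Agent.Lib.JacCrit.OverField
import Groth.Agent.Lib.Unram.AtPrime

/-!
# Smooth neighbourhoods and stalk maps
-/

universe u

open CategoryTheory AlgebraicGeometry

namespace Groth.Agent.Lib.JacCrit.SmoothNhd

variable {X Y : Scheme.{u}} (f : X ⟶ Y)

theorem exists_smooth_nhd_iff [LocallyOfFinitePresentation f] (x : X) :
    (∃ U : X.Opens, x ∈ U ∧ Smooth (U.ι ≫ f)) ↔ x ∈ f.smoothLocus := by
  constructor
  · rintro ⟨U, hx, hU⟩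
    have h : (⟨x, hx⟩ : U) ∈ (U.ι ≫ f).smoothLocus := by
      rw [Scheme.Hom.smoothLocus_eq_top]; trivial
    rw [← Scheme.Hom.preimage_smoothLocus_eq] at h
    exact h
  · intro h
    refine ⟨f.smoothLocus, h, Scheme.Hom.smoothLocus_eq_top_iff.mp ?_⟩
    rw [← Scheme.Hom.preimage_smoothLocus_eq]
    exact top_le_iff.mp fun y _ => y.2

theorem flat_stalkMap {x : X} (h : ∃ U : X.Opens, x ∈ U ∧ Smooth (U.ι ≫ f)) :
    (f.stalkMap x).hom.Flat :=
  Unram.AtPrime.flat_stalkMap_of_nhd f x (by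
    obtain ⟨U, hx, hU⟩ := h
    exact ⟨U, hx, inferInstance⟩)

theorem formallySmooth_stalkMap {x : X} (h : ∃ U : X.Opens, x ∈ U ∧ Smooth (U.ι ≫ f))
    [LocallyOfFinitePresentation f] : (f.stalkMap x).hom.FormallySmooth :=
  Scheme.Hom.mem_smoothLocus.mp ((exists_smooth_nhd_iff f x).mp h)

end Groth.Agent.Lib.JacCrit.SmoothNhd
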