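import Groth.Agent.Lib.JacCrit.Regular

/-!
# Smooth points over a field are regular
-/

universe u

open IsLocalRing TensorProduct

namespace Groth.Agent.Lib.JacCrit.RegularOfSmooth

variable (k : Type u) [CommRing k] {P R : Type u} [CommRing P] [IsRegularLocalRing P]
  [CommRing R] [IsLocalRing R] [Algebra k P] [Algebra k R] [Algebra P R] [IsScalarTower k P R]

/-- A formally smooth quotient of a regular local ring which is formally smooth over the base
is regular. -/
theorem isRegularLocalRing_of_surjective [Algebra.FormallySmooth k P] [Module.Free P (Ω[P⁄k])]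
    [Module.Finite P (Ω[P⁄k])] [Algebra.FormallySmooth k R]
    (h : Function.Surjective (algebraMap P R)) : IsRegularLocalRing R := by
  classical
  set I := RingHom.ker (algebraMap P R) with hI
  set m := maximalIdeal P
  set κ := ResidueField R
  have hκ : Function.Surjective (algebraMap P κ) := by
    rw [IsScalarTower.algebraMap_eq P R κ]
    exact IsLocalRing.residue_surjective.comp h
  have hker : RingHom.ker (algebraMap P κ) = m :=
    IsLocalRing.eq_maximalIdeal (RingHom.ker_isMaximal_of_surjective _ hκ)
  have hinj := (Algebra.FormallySmooth.iff_injective_cotangentComplexBaseChange_residueField P h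
    (IsNoetherian.noetherian _)).mp ‹_›
  have hIm : I ≤ m := IsLocalRing.le_maximalIdeal (RingHom.ker_ne_top _)
  have hsq : ∀ y : I, (y : P) ∈ m ^ 2 → (y : P) ∈ m • I := by
    intro y hy
    have hd : ∀ z ∈ m ^ 2, (1 : κ) ⊗ₜ[P] KaehlerDifferential.D k P z = 0 := fun z hz => by
      rw [pow_two] at hz
      induction hz using Submodule.mul_induction_on' with
      | mem_mul_mem a ha b hb =>
        rw [Derivation.leibniz, TensorProduct.tmul_add, TensorProduct.tmul_smul,
          TensorProduct.tmul_smul, TensorProduct.smul_tmul', TensorProduct.smul_tmul',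
          Algebra.smul_def, Algebra.smul_def, RingHom.mem_ker.mp (hker.ge ha),
          RingHom.mem_ker.mp (hker.ge hb)]
        simp
      | add a _ b _ ha hb => rw [map_add, TensorProduct.tmul_add, ha, hb, add_zero]
    have hy' : (1 : κ) ⊗ₜ[P] y = (0 : κ ⊗[P] I) := hinj (by
      rw [KaehlerDifferential.cotangentComplexBaseChange_tmul, one_smul,
        KaehlerDifferential.kerToTensor_apply, map_zero]
      exact hd y hy)
    let e : (P ⧸ m) ≃ₗ[P] κ := (Submodule.quotEquivOfEq _ _ hker.symm).trans
      (LinearMap.quotKerEquivOfSurjective (Algebra.linearMap P κ) hκ)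
    have he : e (Ideal.Quotient.mk m 1) = 1 := map_one (algebraMap P κ)
    have h0 : (TensorProduct.quotTensorEquivQuotSMul I m)
        ((LinearEquiv.rTensor I e.symm) ((1 : κ) ⊗ₜ[P] y)) = 0 := by rw [hy', map_zero, map_zero]
    rw [LinearEquiv.rTensor_tmul, show e.symm 1 = Ideal.Quotient.mk m 1 from
      e.symm_apply_eq.mpr he.symm, TensorProduct.quotTensorEquivQuotSMul_mk_tmul, one_smul,
      Submodule.Quotient.mk_eq_zero] at h0
    have := Submodule.mem_map_of_mem (f := I.subtype) h0
    rwa [Submodule.map_smul'', Submodule.map_subtype_top] at this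
  let W : Set (CotangentSpace P) := Set.range fun x : I => m.toCotangent ⟨x.1, hIm x.2⟩
  obtain ⟨b, hbW, hbspan, hbli⟩ := exists_linearIndependent (ResidueField P) W
  have hli : LinearIndepOn (ResidueField P) id b := hbli
  set B := hli.extend (Set.subset_univ _)
  have hbB : b ⊆ B := hli.subset_extend _
  have hB : LinearIndepOn (ResidueField P) id B := hli.linearIndepOn_extend _
  have hBfin : B.Finite := hB.setFinite
  have hbfin : b.Finite := hBfin.subset hbB
  have hsp : Submodule.span (ResidueField P) B = ⊤ :=
    (hli.span_extend_eq_span (Set.subset_univ _)).trans Submodule.span_univ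
  have hcard : hBfin.toFinset.card = (maximalIdeal P).spanFinrank := by
    have h := finrank_span_finset_eq_card (R := ResidueField P) (s := hBfin.toFinset)
      (by rw [Set.Finite.coe_toFinset]; exact hB)
    rw [Set.Finite.coe_toFinset, hsp, finrank_top] at h
    rw [spanFinrank_maximalIdeal_eq_finrank_cotangentSpace, h]
  choose l hl using m.toCotangent_surjective
  have hlI : ∀ w ∈ b, ∃ x : I, m.toCotangent ⟨x.1, hIm x.2⟩ = w := fun w hw => hbW hw
  choose! lI hlI using hlI
  let t : Finset P := (hBfin.toFinset \ hbfin.toFinset).image fun w => (l w : P)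
  let s : Finset P := hbfin.toFinset.image fun w => ((lI w : I) : P)
  let L : CotangentSpace P → m := fun w => if w ∈ b then ⟨(lI w).1, hIm (lI w).2⟩ else l w
  have hL : ∀ w, m.toCotangent (L w) = w := fun w => by
    by_cases hw : w ∈ b
    · simp only [L, if_pos hw]; exact hlI w hw
    · simp only [L, if_neg hw]; exact hl w
  have hst : Ideal.span ((s ∪ t : Finset P) : Set P) = m := by
    have himg : m.toCotangent '' (L '' B) = B := by rw [Set.image_image]; simp [hL]
    have hS : Submodule.span P (L '' B) = ⊤ :=
      CotangentSpace.span_image_eq_top_iff.mp (by rw [himg]; exact hsp)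
    have := congrArg (Submodule.map m.subtype) hS
    rw [Submodule.map_span, Submodule.map_subtype_top] at this
    refine Eq.trans ?_ this
    congr 1
    ext x
    simp only [Finset.coe_union, Set.mem_union, Finset.coe_image, Set.mem_image, s, t,
      Finset.coe_sdiff, Set.Finite.coe_toFinset, Set.mem_sdiff, Submodule.coe_subtype]
    constructor
    · rintro (⟨w, hw, rfl⟩ | ⟨w, hw, rfl⟩)
      · exact ⟨_, ⟨w, hbB hw, rfl⟩, by simp only [L, if_pos hw]⟩
      · exact ⟨_, ⟨w, hw.1, rfl⟩, by simp only [L, if_neg hw.2]⟩
    · rintro ⟨_, ⟨w, hw, rfl⟩, rfl⟩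
      by_cases hwb : w ∈ b
      · exact Or.inl ⟨w, hwb, by simp only [L, if_pos hwb]⟩
      · exact Or.inr ⟨w, ⟨hw, hwb⟩, by simp only [L, if_neg hwb]⟩
  have hst_card : s.card + t.card ≤ (maximalIdeal P).spanFinrank := by
    rw [← hcard, ← Finset.card_sdiff_add_card_eq_card
      (Set.Finite.toFinset_subset_toFinset.mpr hbB : hbfin.toFinset ⊆ hBfin.toFinset)]
    have h1 : t.card ≤ _ := Finset.card_image_le
    have h2 : s.card ≤ _ := Finset.card_image_le
    omega
  obtain ⟨hreg, -, -⟩ := Regular.Quotient.quotient_of_gens s t hst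
    (by rw [← IsRegularLocalRing.spanFinrank_maximalIdeal]; exact_mod_cast hst_card)
  set J := Ideal.span (s : Set P)
  have hJI : J ≤ I := Ideal.span_le.mpr fun x hx => by
    obtain ⟨w, -, rfl⟩ := Finset.mem_image.mp hx
    exact (lI w).2
  have hIJ : I ≤ J := by
    refine Submodule.le_of_le_smul_of_le_jacobson_bot (IsNoetherian.noetherian _)
      (IsLocalRing.maximalIdeal_le_jacobson ⊥) fun x hx => ?_
    have hxb : m.toCotangent ⟨x, hIm hx⟩ ∈ Submodule.span P b := by
      have : m.toCotangent ⟨x, hIm hx⟩ ∈ Submodule.span (ResidueField P) b :=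
        hbspan ▸ Submodule.subset_span ⟨⟨x, hx⟩, rfl⟩
      rwa [← Submodule.restrictScalars_span P (ResidueField P) IsLocalRing.residue_surjective]
    have hmap : Submodule.span P b ≤
        Submodule.map m.toCotangent (Submodule.comap m.subtype J) := by
      refine Submodule.span_le.mpr fun w hw => ?_
      refine ⟨⟨(lI w).1, hIm (lI w).2⟩, ?_, hlI w hw⟩
      exact Ideal.subset_span (Finset.mem_image.mpr ⟨w, hbfin.mem_toFinset.mpr hw, rfl⟩)
    obtain ⟨z, hz, hzx⟩ := hmap hxb
    have hxz : x - z.1 ∈ m • I := hsq ⟨_, I.sub_mem hx (hJI hz)⟩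
      (m.toCotangent_eq.mp hzx.symm)
    exact Submodule.mem_sup.mpr ⟨z.1, hz, x - z.1, hxz, by simp⟩
  have hJ : J = I := le_antisymm hJI hIJ
  let e : (P ⧸ J) ≃+* R := (Ideal.quotEquivOfEq hJ).trans (RingHom.quotientKerEquivOfSurjective h)
  exact IsRegularLocalRing.of_ringEquiv e

/-- A smooth point of a finite type algebra over a field has a regular local ring. -/
theorem isRegularLocalRing (k : Type u) [Field k] {A : Type u} [CommRing A] [Algebra k A]
    [Algebra.FiniteType k A] (p : Ideal A) [p.IsPrime] [Algebra.IsSmoothAt k p] :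
    IsRegularLocalRing (Localization.AtPrime p) := by
  obtain ⟨n, f, hf⟩ := Algebra.FiniteType.iff_quotient_mvPolynomial''.mp
    (inferInstance : Algebra.FiniteType k A)
  let q := p.comap f.toRingHom
  haveI : q.IsPrime := Ideal.IsPrime.comap _
  let P := Localization.AtPrime q
  let g : P →ₐ[k] Localization.AtPrime p := IsLocalization.liftAlgHom (M := q.primeCompl)
    (f := (IsScalarTower.toAlgHom k A (Localization.AtPrime p)).comp f) fun x => by
      simpa using IsLocalization.map_units (M := p.primeCompl) (Localization.AtPrime p)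
        ⟨f x.1, x.2⟩
  have hg : Function.Surjective g := by
    intro x
    obtain ⟨x, ⟨s, hs⟩, rfl⟩ := IsLocalization.exists_mk'_eq p.primeCompl x
    obtain ⟨x, rfl⟩ := hf x
    obtain ⟨s, rfl⟩ := hf s
    refine ⟨IsLocalization.mk' (M := q.primeCompl) _ x ⟨s, hs⟩, ?_⟩
    simp [g, IsLocalization.lift_mk', Units.mul_inv_eq_iff_eq_mul, IsUnit.liftRight]
  letI := g.toRingHom.toAlgebra
  haveI : IsScalarTower k P (Localization.AtPrime p) :=
    IsScalarTower.of_algebraMap_eq fun x => (g.commutes x).symm
  haveI : Algebra.FormallyEtale (MvPolynomial (Fin n) k) P := .of_isLocalization q.primeCompl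
  haveI : Algebra.FormallySmooth k P := .comp _ (MvPolynomial (Fin n) k) _
  haveI : Module.Free P (Ω[P⁄k]) :=
    .of_equiv (KaehlerDifferential.tensorKaehlerEquivOfFormallyEtale k (MvPolynomial (Fin n) k) P)
  haveI : Module.Finite P (Ω[P⁄k]) := Module.Finite.equiv
    (KaehlerDifferential.tensorKaehlerEquivOfFormallyEtale k (MvPolynomial (Fin n) k) P)
  haveI : Algebra.FormallySmooth k (Localization.AtPrime p) := ‹Algebra.IsSmoothAt k p›
  exact isRegularLocalRing_of_surjective k (P := P) (R := Localization.AtPrime p) hg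

end Groth.Agent.Lib.JacCrit.RegularOfSmooth
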