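import Groth.Agent.Lib.JacCrit.Scheme
import Groth.Agent.Lib.JacCrit.RegularOfSmooth
import Groth.Agent.Lib.FibreDim.Chart
import Groth.Agent.H20.RegularFlat
import Groth.Agent.Lib.Depth.CM
import Mathlib.RingTheory.LocalRing.ResidueField.Fiber
import Mathlib.AlgebraicGeometry.Properties
import Mathlib.AlgebraicGeometry.Fiber

/-!
# Flatness over a regular base from a regular fibre and the dimension formula
-/

universe u

open IsLocalRing TensorProduct CategoryTheory AlgebraicGeometry Topology

namespace Groth.Agent.Lib.JacCrit.FlatRegular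

section Alg

variable {A B : Type u} [CommRing A] [CommRing B] [IsRegularLocalRing A] [IsNoetherianRing B]
  [IsLocalRing B] [Algebra A B] [IsLocalHom (algebraMap A B)]

/-- Regular base, regular closed fibre, dimension formula: regular total ring. -/
theorem isRegularLocalRing
    [IsRegularLocalRing (B ⧸ (maximalIdeal A).map (algebraMap A B))]
    (hdim : ringKrullDim (B ⧸ (maximalIdeal A).map (algebraMap A B)) + ringKrullDim A ≤
      ringKrullDim B) : IsRegularLocalRing B := by
  classical
  set I := (maximalIdeal A).map (algebraMap A B)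
  set F := B ⧸ I
  have hI : I ≤ maximalIdeal B := IsLocalRing.map_maximalIdeal_le (algebraMap A B)
  obtain ⟨u, hu_card, hu⟩ :=
    Submodule.FG.exists_span_finset_card_eq_spanFinrank (IsNoetherian.noetherian (maximalIdeal F))
  obtain ⟨w, hw_card, hw⟩ :=
    Submodule.FG.exists_span_finset_card_eq_spanFinrank (IsNoetherian.noetherian (maximalIdeal A))
  choose v hv using (Ideal.Quotient.mk_surjective (I := I))
  have hspan : Ideal.span (((u.image v ∪ w.image (algebraMap A B)) : Finset B) : Set B) =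
      maximalIdeal B := by
    have h1 : Ideal.span ((w.image (algebraMap A B) : Finset B) : Set B) = I := by
      rw [Finset.coe_image, ← Ideal.map_span]
      exact congrArg _ hw
    have h2 : (Ideal.span ((u.image v : Finset B) : Set B)).map (Ideal.Quotient.mk I) =
        maximalIdeal F := by
      rw [Ideal.map_span, Finset.coe_image, Set.image_image]
      simp only [hv, Set.image_id']
      exact hu
    rw [Finset.coe_union, Ideal.span_union, h1, sup_comm]
    have h3 := congrArg (Ideal.comap (Ideal.Quotient.mk I)) h2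
    rw [Ideal.comap_map_of_surjective _ Ideal.Quotient.mk_surjective, ← RingHom.ker_eq_comap_bot,
      Ideal.mk_ker, sup_comm] at h3
    rw [h3]
    refine IsLocalRing.eq_maximalIdeal ?_
    exact Ideal.comap_isMaximal_of_surjective _ Ideal.Quotient.mk_surjective
  have hcard : ((maximalIdeal B).spanFinrank : WithBot ℕ∞) ≤ ringKrullDim B := by
    refine le_trans ?_ hdim
    rw [← IsRegularLocalRing.spanFinrank_maximalIdeal, ← IsRegularLocalRing.spanFinrank_maximalIdeal,
      ← hu_card, ← hw_card, ← hspan]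
    norm_cast
    refine (Submodule.spanFinrank_span_le_ncard_of_finite (Finset.finite_toSet _)).trans ?_
    rw [Set.ncard_coe_finset]
    exact (Finset.card_union_le _ _).trans (add_le_add Finset.card_image_le Finset.card_image_le)
  exact IsRegularLocalRing.of_spanFinrank_maximalIdeal_le B hcard

/-- A regular local ring is Cohen–Macaulay. -/
theorem isCohenMacaulayLocalRing (R : Type u) [CommRing R] [IsRegularLocalRing R] :
    LocCoh.IsCohenMacaulayLocalRing R := by
  classical
  have hfg : (maximalIdeal R).FG := IsNoetherian.noetherian _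
  obtain ⟨s, hs_card, hs⟩ := Submodule.FG.exists_span_finset_card_eq_spanFinrank hfg
  refine Depth.CM.isCohenMacaulayLocalRing_of_isRegular
    (Regular.Quotient.isRegular_of_span_eq_maximalIdeal s.toList ?_ (by rw [Finset.length_toList, hs_card])) ?_
  · rw [Ideal.ofList]
    simpa [Ideal.span] using hs
  · rw [Finset.length_toList, hs_card, IsRegularLocalRing.spanFinrank_maximalIdeal]

/-- Regular base, regular closed fibre, dimension formula: flatness. -/
theorem flat
    [IsRegularLocalRing (B ⧸ (maximalIdeal A).map (algebraMap A B))]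
    (hdim : ringKrullDim (B ⧸ (maximalIdeal A).map (algebraMap A B)) + ringKrullDim A ≤
      ringKrullDim B) : Module.Flat A B := by
  haveI := isRegularLocalRing (A := A) (B := B) hdim
  haveI := isCohenMacaulayLocalRing B
  refine H20.RegularFlat.flat_of_supportDim_eq A B B Depth.CM.isCohenMacaulayModule_self ?_
  rw [Module.supportDim_self_eq_ringKrullDim,
    Module.supportDim_eq_of_equiv (Submodule.quotEquivOfEq _
      ((maximalIdeal A).map (algebraMap A B)) (by simp)),
    Module.supportDim_quotient_eq_ringKrullDim, ringKrullDim_quotient] at *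
  exact hdim

end Alg

variable {X Y : Scheme.{u}} {R S : Type u} [CommRing R] [CommRing S] [Algebra R S] (f : X ⟶ Y)
  (v : Spec (CommRingCat.of R) ⟶ Y) [IsOpenImmersion v]
  (w : Spec (CommRingCat.of S) ⟶ X) [IsOpenImmersion w]
  (hw : Spec.map (CommRingCat.ofHom (algebraMap R S)) ≫ v = w ≫ f)

include hw in
/-- The local ring of the fibre at a point of a chart. -/
theorem ringKrullDim_fiber_stalk (P : PrimeSpectrum S) :
    ringKrullDim ((f.fiber (f (w P))).presheaf.stalk (f.asFiber (w P))) =
      ((PrimeSpectrum.preimageHomeomorphFiber R S _ ⟨P, rfl⟩).asIdeal.height : WithBot ℕ∞) := by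
  set p := PrimeSpectrum.comap (algebraMap R S) P
  obtain ⟨e, he, hev⟩ := FibreDim.Chart.exists_isOpenEmbedding f v w hw p
  set z : ↥(Spec (CommRingCat.of (p.asIdeal.Fiber S))) :=
    PrimeSpectrum.preimageHomeomorphFiber R S _ ⟨P, rfl⟩
  let e' : ↥(Spec (CommRingCat.of (p.asIdeal.Fiber S))) → ↥(f.fiber (v p)) :=
    fun z => (f.fiberHomeo (v p)).symm (e z)
  have he' : IsOpenEmbedding e' := (f.fiberHomeo (v p)).symm.isOpenEmbedding.comp he
  have hy : f (w P) = v p := FibreDim.Chart.apply_eq f v w hw P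
  have key : ∀ (y : Y) (h : f (w P) = y),
      ringKrullDim ((f.fiber y).presheaf.stalk ((f.fiberHomeo y).symm ⟨w P, h⟩)) =
        ringKrullDim ((f.fiber (f (w P))).presheaf.stalk (f.asFiber (w P))) := by
    rintro y rfl
    rfl
  rw [← key (v p) hy, ringKrullDim_stalk_eq_coheight]
  have hez : e' z = (f.fiberHomeo (v p)).symm ⟨w P, hy⟩ := by
    refine congrArg (⇑(f.fiberHomeo (v p)).symm) (Subtype.ext ?_)
    rw [hev]
    exact congrArg (fun a => w.base a.1)
      ((PrimeSpectrum.preimageHomeomorphFiber R S p).symm_apply_apply ⟨P, rfl⟩)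
  rw [← hez, he'.coheight_eq (x := z), ← idealHeight_eq_coheight]

/-- Local rings of fibres as quotients. -/
theorem nonempty_ringEquiv (p : Ideal R) [p.IsPrime] (q : Ideal S) [q.IsPrime]
    (qF : Ideal (p.Fiber S)) [qF.IsPrime]
    (hqF : qF.comap (Algebra.TensorProduct.includeRight (R := R) (A := p.ResidueField)) = q) :
    Nonempty (Localization.AtPrime qF ≃+*
      Localization.AtPrime q ⧸ p.map (algebraMap R (Localization.AtPrime q))) := by
  subst hqF
  refine ⟨(Ideal.Fiber.algEquivAux₂ p qF).toRingEquiv.trans (Ideal.quotEquivOfEq ?_)⟩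
  rw [Ideal.map_map, ← IsScalarTower.algebraMap_eq]

variable {f} [LocallyOfFinitePresentation f]

open OmegaSh Groth.Agent.Lib.Kaehler in
/-- The scheme version: regular base, free differentials of rank the fibre dimension. -/
theorem flat_stalkMap [IsLocallyNoetherian Y] [LocallyOfFiniteType f] {Ω : X.Modules}
    {d : Der f Ω} (hd : IsUniversal d) (x : X)
    (hreg : IsRegularLocalRing (Y.presheaf.stalk (f x)))
    {U₀ : X.Opens} {n : ℕ} (hx : x ∈ U₀) (i : Ω.restrict U₀.ι ≅ FlatMod.freeMod (↑U₀) n)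
    (hn : (n : WithBot ℕ∞) ≤ FlatMor.fibreDimAt f x)
    (hdim : ringKrullDim ((f.fiber (f x)).presheaf.stalk (f.asFiber x)) +
      ringKrullDim (Y.presheaf.stalk (f x)) ≤ ringKrullDim (X.presheaf.stalk x)) :
    (f.stalkMap x).hom.Flat := by
  obtain ⟨V, hV, hxV, -⟩ := BaseChange.exists_affine_le (W := (⊤ : Y.Opens)) (x := f x) trivial
  obtain ⟨U, hU, hxU, hUV⟩ := BaseChange.exists_affine_le (W := U₀ ⊓ f ⁻¹ᵁ V) (x := x) ⟨hx, hxV⟩
  have e : U ≤ f ⁻¹ᵁ V := fun y hy => (hUV hy).2
  have hle : U ≤ U₀ := fun y hy => (hUV hy).1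
  letI := (f.appLE V U e).hom.toAlgebra
  haveI : Algebra.FinitePresentation Γ(Y, V) Γ(X, U) := f.finitePresentation_appLE hV hU e
  haveI : IsLocallyNoetherian X := LocallyOfFiniteType.isLocallyNoetherian f
  haveI : IsNoetherianRing Γ(X, U) := IsLocallyNoetherian.component_noetherian ⟨U, hU⟩
  obtain ⟨j⟩ := Chart.nonempty_restrict_iso f hU hV e hd
  have i' : Ω.restrict hU.fromSpec ≅ FlatMod.freeMod (Spec Γ(X, U)) n :=
    (Scheme.Modules.restrictFunctorComp hU.isoSpec.inv U.ι).app Ω ≪≫
      (Scheme.Modules.restrictFunctor hU.isoSpec.inv).mapIso (Modules.Free.freeOfLE hle i) ≪≫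
        Modules.Free.restrictFreeIso hU.isoSpec.inv n
  obtain ⟨b⟩ := Scheme'.nonempty_basis_of_tilde_iso _ (j.symm ≪≫ i')
  set P := hU.primeIdealOf ⟨x, hxU⟩
  have hP : hU.fromSpec P = x := hU.fromSpec_primeIdealOf ⟨x, hxU⟩
  set p0 := PrimeSpectrum.comap (algebraMap Γ(Y, V) Γ(X, U)) P with hp0
  set qF := PrimeSpectrum.preimageHomeomorphFiber Γ(Y, V) Γ(X, U) p0 ⟨P, rfl⟩
  letI : Algebra Γ(X, U) (p0.asIdeal.Fiber Γ(X, U)) := Algebra.TensorProduct.rightAlgebra
  let bF : Module.Basis (Fin n) (p0.asIdeal.Fiber Γ(X, U))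
      (Ω[p0.asIdeal.Fiber Γ(X, U)⁄p0.asIdeal.ResidueField]) :=
    (b.baseChange (p0.asIdeal.Fiber Γ(X, U))).map (KaehlerDifferential.tensorKaehlerEquiv
      Γ(Y, V) p0.asIdeal.ResidueField Γ(X, U) (p0.asIdeal.Fiber Γ(X, U)))
  have hfd := FibreDim.Chart.fibreDimAt_eq_dimAt f hV.fromSpec hU.fromSpec
    (hV.SpecMap_appLE_fromSpec f hU e) P
  rw [show hU.fromSpec.base P = x from hP] at hfd
  rw [hfd] at hn
  haveI : Algebra.IsSmoothAt p0.asIdeal.ResidueField qF.asIdeal :=
    Point.isSmoothAt_of_basis (n := n) p0.asIdeal.ResidueField bF qF.asIdeal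
      (show n ≤ Dim.Local.dimAt p0.asIdeal.ResidueField qF.asIdeal by exact_mod_cast hn)
  haveI := RegularOfSmooth.isRegularLocalRing p0.asIdeal.ResidueField qF.asIdeal
  have hqF : qF.asIdeal.comap (Algebra.TensorProduct.includeRight (R := Γ(Y, V))
      (A := p0.asIdeal.ResidueField)).toRingHom = P.asIdeal :=
    congrArg PrimeSpectrum.asIdeal (congrArg Subtype.val
      ((PrimeSpectrum.preimageHomeomorphFiber Γ(Y, V) Γ(X, U) p0).symm_apply_apply ⟨P, rfl⟩))
  obtain ⟨ε⟩ := nonempty_ringEquiv p0.asIdeal P.asIdeal qF.asIdeal hqF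
  refine (RingHom.Flat.respectsIso.arrow_mk_iso_iff
    (IsAffineOpen.arrowStalkMapIso f V hV U hU e hxU)).mpr ?_
  have hp : p0.asIdeal = (hV.primeIdealOf ⟨f x, e hxU⟩).asIdeal :=
    congr($(IsAffineOpen.comap_primeIdealOf_appLE V hV U hU e hxU).1)
  have keyflat : ∀ (J : Ideal Γ(Y, V)) [J.IsPrime]
      (hJ : J = P.asIdeal.comap (f.appLE V U e).hom),
      (Localization.localRingHom (P.asIdeal.comap (f.appLE V U e).hom) P.asIdeal
        (f.appLE V U e).hom rfl).Flat →
      (Localization.localRingHom J P.asIdeal (f.appLE V U e).hom hJ).Flat := by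
    rintro J _ rfl h; exact h
  refine keyflat _ hp.symm ?_
  haveI : P.asIdeal.LiesOver p0.asIdeal := ⟨rfl⟩
  letI := Localization.AtPrime.algebraOfLiesOver p0.asIdeal P.asIdeal
  change Module.Flat (Localization.AtPrime p0.asIdeal) (Localization.AtPrime P.asIdeal)
  haveI : IsLocalHom (algebraMap (Localization.AtPrime p0.asIdeal) (Localization.AtPrime P.asIdeal)) :=
    Localization.isLocalHom_localRingHom p0.asIdeal P.asIdeal _ rfl
  have hA : Nonempty (Localization.AtPrime p0.asIdeal ≃+* Y.presheaf.stalk (f x)) := by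
    letI := Y.presheaf.algebra_section_stalk ⟨f x, e hxU⟩
    haveI := hV.isLocalization_stalk ⟨f x, e hxU⟩
    have key : ∀ (J : Ideal Γ(Y, V)) [J.IsPrime], J = (hV.primeIdealOf ⟨f x, e hxU⟩).asIdeal →
        Nonempty (Localization.AtPrime J ≃+* Y.presheaf.stalk (f x)) := by
      rintro J _ rfl
      exact ⟨(IsLocalization.algEquiv (hV.primeIdealOf ⟨f x, e hxU⟩).asIdeal.primeCompl
        (Localization.AtPrime (hV.primeIdealOf ⟨f x, e hxU⟩).asIdeal)
        (Y.presheaf.stalk (f x))).toRingEquiv⟩
    exact key _ hp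
  obtain ⟨εA⟩ := hA
  haveI := hreg
  haveI : IsRegularLocalRing (Localization.AtPrime p0.asIdeal) :=
    IsRegularLocalRing.of_ringEquiv εA.symm
  have hmap : (maximalIdeal (Localization.AtPrime p0.asIdeal)).map
      (algebraMap (Localization.AtPrime p0.asIdeal) (Localization.AtPrime P.asIdeal)) =
      p0.asIdeal.map (algebraMap Γ(Y, V) (Localization.AtPrime P.asIdeal)) := by
    rw [← Localization.AtPrime.map_eq_maximalIdeal, Ideal.map_map, ← IsScalarTower.algebraMap_eq]
  let ε' := ε.trans (Ideal.quotEquivOfEq hmap.symm)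
  haveI : IsRegularLocalRing (Localization.AtPrime P.asIdeal ⧸
      (maximalIdeal (Localization.AtPrime p0.asIdeal)).map
        (algebraMap (Localization.AtPrime p0.asIdeal) (Localization.AtPrime P.asIdeal))) :=
    IsRegularLocalRing.of_ringEquiv (R := Localization.AtPrime qF.asIdeal) ε'
  haveI : IsNoetherianRing (Localization.AtPrime P.asIdeal) :=
    IsLocalization.isNoetherianRing P.asIdeal.primeCompl _ inferInstance
  refine flat ?_
  letI := X.presheaf.algebra_section_stalk ⟨x, hxU⟩
  haveI := hU.isLocalization_stalk ⟨x, hxU⟩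
  let εB := (IsLocalization.algEquiv P.asIdeal.primeCompl (Localization.AtPrime P.asIdeal)
    (X.presheaf.stalk x)).toRingEquiv
  have hfs := ringKrullDim_fiber_stalk f hV.fromSpec hU.fromSpec
    (hV.SpecMap_appLE_fromSpec f hU e) P
  rw [show hU.fromSpec P = x from hP, ← IsLocalization.AtPrime.ringKrullDim_eq_height
    qF.asIdeal (Localization.AtPrime qF.asIdeal)] at hfs
  rw [← ringKrullDim_eq_of_ringEquiv ε', ringKrullDim_eq_of_ringEquiv εA,
    ringKrullDim_eq_of_ringEquiv εB, ← hfs]
  exact hdim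

end Groth.Agent.Lib.JacCrit.FlatRegular
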