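import Groth.Agent.Lib.JacCrit.GeomRegular
import Groth.Agent.Lib.JacCrit.FlatRegular
import Groth.Agent.Lib.Regular.Descent
import Mathlib.RingTheory.EssentialFiniteness
import Mathlib.RingTheory.RingHom.FinitePresentation

/-!
# Formally smooth local homomorphisms essentially of finite type
-/

universe u

open TensorProduct IsLocalRing

namespace Groth.Agent.Lib.JacCrit.SmoothLocal

section Field

variable (k : Type u) [Field k] (L : Type u) [CommRing L] [IsLocalRing L] [Algebra k L]
  [Algebra.EssFiniteType k L]

/-- Local algebras essentially of finite type are localizations at primes. -/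
theorem exists_model : ∃ (F : Type u) (_ : CommRing F) (_ : Algebra k F)
    (_ : Algebra.FiniteType k F) (q : Ideal F) (_ : q.IsPrime),
    Nonempty (Localization.AtPrime q ≃ₐ[k] L) := by
  let F := Algebra.EssFiniteType.subalgebra k L
  let q : Ideal F := (maximalIdeal L).comap (algebraMap F L)
  have hM : Algebra.EssFiniteType.submonoid k L = q.primeCompl := by
    ext a
    change IsUnit (algebraMap F L a) ↔ ¬ algebraMap F L a ∈ maximalIdeal L
    rw [IsLocalRing.mem_maximalIdeal, mem_nonunits_iff, not_not]
  have h : IsLocalization (Algebra.EssFiniteType.submonoid k L) L := inferInstance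
  rw [hM] at h
  haveI : IsLocalization.AtPrime L q := h
  exact ⟨F, inferInstance, inferInstance, inferInstance, q, inferInstance,
    ⟨(IsLocalization.algEquiv q.primeCompl (Localization.AtPrime q) L).restrictScalars k⟩⟩

omit [Algebra.EssFiniteType k L] [IsLocalRing L] in
theorem isGeometricallyRegular_congr {L' : Type u} [CommRing L'] [Algebra k L'] (e : L ≃ₐ[k] L') :
    CAlg.IsGeometricallyRegular k L ↔ CAlg.IsGeometricallyRegular k L' := by
  constructor
  · exact fun h k' _ _ hk' =>
      haveI := h k' hk'
      IsRegularRing.of_ringEquiv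
        (Algebra.TensorProduct.congr (AlgEquiv.refl (R := k) (A₁ := k')) e).toRingEquiv
  · exact fun h k' _ _ hk' =>
      haveI := h k' hk'
      IsRegularRing.of_ringEquiv
        (Algebra.TensorProduct.congr (AlgEquiv.refl (R := k) (A₁ := k')) e.symm).toRingEquiv

/-- For local algebras essentially of finite type: formally smooth is geometrically regular. -/
theorem formallySmooth_iff_isGeometricallyRegular :
    Algebra.FormallySmooth k L ↔ CAlg.IsGeometricallyRegular k L := by
  obtain ⟨F, _, _, _, q, _, ⟨e⟩⟩ := exists_model k L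
  rw [← isGeometricallyRegular_congr k _ e, ← GeomRegular.isSmoothAt_iff k q]
  exact ⟨fun _ => Algebra.FormallySmooth.of_equiv e.symm,
    fun (h : Algebra.FormallySmooth k (Localization.AtPrime q)) => Algebra.FormallySmooth.of_equiv e⟩

/-- Formally smooth local algebras essentially of finite type over a field are regular. -/
theorem isRegularLocalRing_of_formallySmooth [Algebra.FormallySmooth k L] :
    IsRegularLocalRing L := by
  obtain ⟨F, _, _, _, q, _, ⟨e⟩⟩ := exists_model k L
  haveI : Algebra.IsSmoothAt k q := Algebra.FormallySmooth.of_equiv e.symm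
  haveI := RegularOfSmooth.isRegularLocalRing k q
  exact IsRegularLocalRing.of_ringEquiv (R := Localization.AtPrime q) e.toRingEquiv

end Field

section Hom

variable {A B : Type u} [CommRing A] [CommRing B] [IsLocalRing A] [IsLocalRing B] (φ : A →+* B)
  [IsLocalHom φ]

/-- The closed fibre. -/
theorem isLocalRing_fibre : IsLocalRing (B ⧸ (maximalIdeal A).map φ) :=
  haveI : Nontrivial (B ⧸ (maximalIdeal A).map φ) := Ideal.Quotient.nontrivial_iff.mpr
    (Regular.Quotient.ne_top_of_le_maximalIdeal (IsLocalRing.map_maximalIdeal_le φ))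
  .of_surjective' _ Ideal.Quotient.mk_surjective

omit [IsLocalRing B] [IsLocalHom φ] in
set_option backward.isDefEq.respectTransparency false in
/-- The closed fibre is the base change to the residue field. -/
theorem nonempty_fibreEquiv :
    letI : Algebra A B := φ.toAlgebra
    letI : Algebra (ResidueField A) (B ⧸ (maximalIdeal A).map φ) :=
      (Ideal.quotientMap ((maximalIdeal A).map φ) φ Ideal.le_comap_map).toAlgebra
    Nonempty (ResidueField A ⊗[A] B ≃ₐ[ResidueField A] B ⧸ (maximalIdeal A).map φ) := by
  letI : Algebra A B := φ.toAlgebra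
  letI : Algebra (ResidueField A) (B ⧸ (maximalIdeal A).map φ) :=
    (Ideal.quotientMap ((maximalIdeal A).map φ) φ Ideal.le_comap_map).toAlgebra
  let e : ResidueField A ⊗[A] B ≃ₐ[A] B ⧸ (maximalIdeal A).map φ :=
    (Algebra.TensorProduct.comm _ _ _).trans
      ((Algebra.TensorProduct.quotIdealMapEquivTensorQuot B (maximalIdeal A)).symm.restrictScalars _)
  refine ⟨{ __ := e, commutes' := fun r => ?_ }⟩
  obtain ⟨a, rfl⟩ := IsLocalRing.residue_surjective r
  exact e.commutes a

variable [IsNoetherianRing A] [IsNoetherianRing B] (hess : φ.EssFiniteType)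

include hess in
omit [IsNoetherianRing A] [IsNoetherianRing B] [IsLocalRing B] [IsLocalHom φ] in
theorem essFiniteType_fibre :
    letI : Algebra (ResidueField A) (B ⧸ (maximalIdeal A).map φ) :=
      (Ideal.quotientMap ((maximalIdeal A).map φ) φ Ideal.le_comap_map).toAlgebra
    Algebra.EssFiniteType (ResidueField A) (B ⧸ (maximalIdeal A).map φ) := by
  letI : Algebra A B := φ.toAlgebra
  haveI : Algebra.EssFiniteType A B := hess
  letI : Algebra (ResidueField A) (B ⧸ (maximalIdeal A).map φ) :=
    (Ideal.quotientMap ((maximalIdeal A).map φ) φ Ideal.le_comap_map).toAlgebra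
  haveI : IsScalarTower A (ResidueField A) (B ⧸ (maximalIdeal A).map φ) :=
    IsScalarTower.of_algebraMap_eq fun x => rfl
  haveI : Algebra.EssFiniteType B (B ⧸ (maximalIdeal A).map φ) :=
    .of_surjective (IsScalarTower.toAlgHom B B _) Ideal.Quotient.mk_surjective
  haveI : Algebra.EssFiniteType A (B ⧸ (maximalIdeal A).map φ) := .comp A B _
  exact .of_comp A (ResidueField A) _

include hess in
omit [IsNoetherianRing A] [IsNoetherianRing B] in
/-- Formally smooth maps have regular closed fibres. -/
theorem isRegularLocalRing_fibre (hs : φ.FormallySmooth) :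
    IsRegularLocalRing (B ⧸ (maximalIdeal A).map φ) := by
  letI : Algebra A B := φ.toAlgebra
  haveI : Algebra.FormallySmooth A B := hs
  letI : Algebra (ResidueField A) (B ⧸ (maximalIdeal A).map φ) :=
    (Ideal.quotientMap ((maximalIdeal A).map φ) φ Ideal.le_comap_map).toAlgebra
  obtain ⟨e⟩ := nonempty_fibreEquiv φ
  haveI := isLocalRing_fibre φ
  haveI := essFiniteType_fibre φ hess
  haveI : Algebra.FormallySmooth (ResidueField A) (B ⧸ (maximalIdeal A).map φ) :=
    Algebra.FormallySmooth.of_equiv e
  exact isRegularLocalRing_of_formallySmooth (ResidueField A) _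

theorem ringKrullDim_eq_of_flat (hflat : φ.Flat) :
    ringKrullDim B = ringKrullDim A + ringKrullDim (B ⧸ (maximalIdeal A).map φ) := by
  letI : Algebra A B := φ.toAlgebra
  haveI : Module.Flat A B := hflat
  haveI : (maximalIdeal B).LiesOver (maximalIdeal A) :=
    ⟨(((local_hom_TFAE φ).out 0 4 rfl rfl).mp ‹IsLocalHom φ›).symm⟩
  have h := Ideal.height_eq_height_add_of_liesOver_of_hasGoingDown (maximalIdeal A) (maximalIdeal B)
  haveI := isLocalRing_fibre φ
  rw [← Regular.Quotient.maximalIdeal_quotient] at h
  have h' := congrArg (fun x : ℕ∞ => (x : WithBot ℕ∞)) h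
  simp only [WithBot.coe_add, IsLocalRing.maximalIdeal_height_eq_ringKrullDim] at h'
  exact h'

include hess in
/-- Smooth local maps: regularity of source and target are equivalent. -/
theorem isRegularLocalRing_iff (hflat : φ.Flat) (hs : φ.FormallySmooth) :
    IsRegularLocalRing B ↔ IsRegularLocalRing A := by
  letI : Algebra A B := φ.toAlgebra
  haveI : Module.Flat A B := hflat
  haveI : IsLocalHom (algebraMap A B) := ‹IsLocalHom φ›
  constructor
  · intro h
    exact Regular.Descent.isRegularLocalRing_of_flat B
  · intro h
    haveI : IsRegularLocalRing (B ⧸ (maximalIdeal A).map (algebraMap A B)) :=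
      isRegularLocalRing_fibre φ hess hs
    exact FlatRegular.isRegularLocalRing (A := A)
      ((add_comm _ _).trans (ringKrullDim_eq_of_flat φ hflat).symm).le

end Hom

end Groth.Agent.Lib.JacCrit.SmoothLocal
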