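import Groth.Agent.Lib.JacCrit.Point
import Groth.Agent.Lib.Kaehler.SmoothDim
import Groth.Agent.Lib.FibreDim.Basic
import Groth.Agent.Lib.Dim.LocalDim
import Groth.Agent.Lib.GrpSch.SmoothReduced
import Mathlib.RingTheory.Nilpotent.GeometricallyReduced
import Mathlib.RingTheory.Smooth.Field
import Mathlib.RingTheory.Spectrum.Prime.FreeLocus
import Mathlib.RingTheory.Smooth.StandardSmoothCotangent

/-!
# Smooth algebras over a field: projective differentials and geometrically reduced generic points
-/

universe u

open TensorProduct Groth.Agent.Lib.Dim.Local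

namespace Groth.Agent.Lib.JacCrit.Minimal

variable (K : Type u) [Field K] {B : Type u} [CommRing B] [Algebra K B] [Algebra.FiniteType K B]

theorem dimAt_away (g : B) (Bg : Type u) [CommRing Bg] [Algebra B Bg] [Algebra K Bg]
    [IsScalarTower K B Bg] [IsLocalization.Away g Bg] [Algebra.FiniteType K Bg]
    (P : PrimeSpectrum Bg) :
    dimAt K (PrimeSpectrum.comap (algebraMap B Bg) P).asIdeal = dimAt K P.asIdeal := by
  have h := FibreDim.Basic.localDim_eq_of_isOpenEmbedding
    (PrimeSpectrum.localization_away_isOpenEmbedding Bg g) P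
  rw [Dim.LocalDim.localDim_eq_dimAt K (PrimeSpectrum.comap (algebraMap B Bg) P).asIdeal,
    Dim.LocalDim.localDim_eq_dimAt K P.asIdeal] at h
  exact_mod_cast h

/-- At a smooth point the local dimension is the rank of the differentials. -/
theorem dimAt_eq_of_isSmoothAt {n : ℕ} (b : Module.Basis (Fin n) B (Ω[B⁄K])) (P : Ideal B)
    [P.IsPrime] [Algebra.IsSmoothAt K P] : dimAt K P = n := by
  haveI : Algebra.FinitePresentation K B := Algebra.FinitePresentation.of_finiteType.mp ‹_›
  obtain ⟨g, hg, hs⟩ := Algebra.IsSmoothAt.exists_notMem_isStandardSmooth K P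
  obtain ⟨ι, σ, h1, h2, ⟨Q⟩⟩ := hs.out
  haveI hn : Algebra.IsStandardSmoothOfRelativeDimension Q.dimension K (Localization.Away g) :=
    ⟨ι, σ, h1, h2, Q, rfl⟩
  obtain ⟨P', hP'⟩ : ∃ P' : PrimeSpectrum (Localization.Away g),
      PrimeSpectrum.comap (algebraMap B (Localization.Away g)) P' = ⟨P, inferInstance⟩ := by
    have : (⟨P, inferInstance⟩ : PrimeSpectrum B) ∈
        Set.range (PrimeSpectrum.comap (algebraMap B (Localization.Away g))) := by
      rw [PrimeSpectrum.localization_away_comap_range (Localization.Away g) g]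
      exact hg
    exact this
  haveI : Nontrivial (Localization.Away g) := P'.nontrivial
  haveI : Algebra.FormallyEtale B (Localization.Away g) := .of_isLocalization (Submonoid.powers g)
  have hr := Algebra.IsStandardSmoothOfRelativeDimension.rank_kaehlerDifferential
    (R := K) (S := Localization.Away g) Q.dimension
  rw [rank_eq_card_basis ((b.baseChange (Localization.Away g)).map
    (KaehlerDifferential.tensorKaehlerEquivOfFormallyEtale K B (Localization.Away g)))] at hr
  simp only [Fintype.card_fin, Nat.cast_inj] at hr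
  have h := dimAt_away K g (Localization.Away g) P'
  rw [hP', Kaehler.SmoothDim.dimAt_eq (n := Q.dimension) K P'.asIdeal] at h
  rw [h, hr]

/-- A minimal prime with reduced local ring over a perfect field is a smooth point. -/
theorem isSmoothAt_of_minimal [PerfectField K] {Q : Ideal B} [Q.IsPrime]
    (hQ : Q ∈ minimalPrimes B)
    (hred : ∀ x : B, IsNilpotent x → algebraMap B (Localization.AtPrime Q) x = 0) :
    Algebra.IsSmoothAt K Q := by
  let L := Localization.AtPrime Q
  have hfield : IsField L := by
    rw [IsLocalRing.isField_iff_maximalIdeal_eq, eq_bot_iff]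
    intro z hz
    obtain ⟨x, s, rfl⟩ := IsLocalization.exists_mk'_eq Q.primeCompl z
    have hnil : IsNilpotent (IsLocalization.mk' L x s) := by
      rw [nilpotent_iff_mem_prime]
      intro J hJ
      have hle : J.comap (algebraMap B L) ≤ Q :=
        ((IsLocalization.AtPrime.orderIsoOfPrime L Q) ⟨J, hJ⟩).2.2
      have heq : J.comap (algebraMap B L) = Q :=
        le_antisymm hle (hQ.2 ⟨Ideal.IsPrime.comap _, bot_le⟩ hle)
      have hxQ : x ∈ Q := (IsLocalization.AtPrime.mk'_mem_maximal_iff L Q x s).mp hz
      rw [← heq, Ideal.mem_comap] at hxQ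
      rw [IsLocalization.mk'_eq_mul_mk'_one]
      exact J.mul_mem_right _ hxQ
    obtain ⟨m, hm⟩ := hnil
    rw [← IsLocalization.mk'_pow, IsLocalization.mk'_eq_zero_iff] at hm
    obtain ⟨c, hc⟩ := hm
    rcases m with _ | m
    · rw [pow_zero, mul_one] at hc
      exact absurd (hc ▸ Q.zero_mem) c.2
    have hn : IsNilpotent (c.1 * x) := ⟨m + 1, by
      rw [mul_pow, pow_succ c.1 m, mul_assoc, hc, mul_zero]⟩
    have h0 := hred _ hn
    rw [map_mul] at h0
    have hx0 : algebraMap B L x = 0 :=
      (IsLocalization.map_units L c).mul_right_eq_zero.mp h0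
    rw [IsLocalization.mk'_eq_mul_mk'_one, hx0, zero_mul]
    rfl
  letI := hfield.toField
  haveI : Algebra.EssFiniteType B L := .of_isLocalization L Q.primeCompl
  haveI : Algebra.EssFiniteType K L := .comp K B L
  exact Algebra.FormallySmooth.of_perfectField (K := K) (L := L)

/-- The criterion over an algebraically closed field. -/
theorem smooth_of_isAlgClosed [IsAlgClosed K] (hproj : Module.Projective B (Ω[B⁄K]))
    (hmin : ∀ Q : Ideal B, ∀ [Q.IsPrime], Q ∈ minimalPrimes B →
      ∀ x : B, IsNilpotent x → algebraMap B (Localization.AtPrime Q) x = 0) :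
    Algebra.Smooth K B := by
  haveI : Algebra.FinitePresentation K B := Algebra.FinitePresentation.of_finiteType.mp ‹_›
  haveI : Module.Finite B (Ω[B⁄K]) := inferInstance
  refine ⟨Algebra.smoothLocus_eq_univ_iff.mp (Set.eq_univ_iff_forall.mpr fun P => ?_), inferInstance⟩
  obtain ⟨m, hm, hPm⟩ := Ideal.exists_le_maximal P.asIdeal P.isPrime.ne_top
  suffices h : Algebra.IsSmoothAt K m from
    (Algebra.isOpen_smoothLocus (R := K) (A := B)).stableUnderGeneralization
      ((PrimeSpectrum.le_iff_specializes P ⟨m, hm.isPrime⟩).mp hPm) h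
  haveI : Module.FinitePresentation B (Ω[B⁄K]) := Module.finitePresentation_of_projective B _
  haveI : Module.Free (Localization.AtPrime m) (LocalizedModule m.primeCompl (Ω[B⁄K])) := by
    rw [← Module.mem_freeLocus (p := (⟨m, hm.isPrime⟩ : PrimeSpectrum B)), Module.freeLocus_eq_univ]
    trivial
  obtain ⟨g, hg, hg', -⟩ := Module.FinitePresentation.exists_free_localizedModule_powers
    m.primeCompl (LocalizedModule.mkLinearMap m.primeCompl (Ω[B⁄K])) (Localization.AtPrime m)
  let B' := Localization.Away g
  haveI : Algebra.FiniteType K B' :=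
    haveI : Algebra.FiniteType B B' := IsLocalization.finiteType_of_monoid_fg (Submonoid.powers g) B'
    .trans (S := B) inferInstance inferInstance
  haveI : Algebra.FinitePresentation K B' := Algebra.FinitePresentation.of_finiteType.mp ‹_›
  haveI : Module.Free B' (Ω[B'⁄K]) := Module.Free.of_equiv
    ((IsLocalizedModule.iso (Submonoid.powers g)
      (KaehlerDifferential.map K K B B')).extendScalarsOfIsLocalization (Submonoid.powers g) B')
  obtain ⟨m', hm'⟩ : ∃ m' : PrimeSpectrum B',
      PrimeSpectrum.comap (algebraMap B B') m' = ⟨m, hm.isPrime⟩ := by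
    have : (⟨m, hm.isPrime⟩ : PrimeSpectrum B) ∈
        Set.range (PrimeSpectrum.comap (algebraMap B B')) := by
      rw [PrimeSpectrum.localization_away_comap_range B' g]
      exact hg
    exact this
  haveI : Nontrivial B' := m'.nontrivial
  let bB : Module.Basis (Fin (Module.finrank B' (Ω[B'⁄K]))) B' (Ω[B'⁄K]) := Module.finBasis B' _
  have hmax : m'.asIdeal.IsMaximal := by
    obtain ⟨M, hM, hle⟩ := Ideal.exists_le_maximal m'.asIdeal m'.isPrime.ne_top
    have h1 : M.comap (algebraMap B B') = m := by
      refine (hm.eq_of_le (Ideal.IsPrime.comap _).ne_top ?_).symm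
      exact (congrArg PrimeSpectrum.asIdeal hm').ge.trans (Ideal.comap_mono hle)
    have h2 : (⟨M, hM.isPrime⟩ : PrimeSpectrum B') = m' :=
      (PrimeSpectrum.localization_comap_injective B' (Submonoid.powers g))
        ((PrimeSpectrum.ext h1).trans hm'.symm)
    exact congrArg PrimeSpectrum.asIdeal h2 ▸ hM
  obtain ⟨Q', hQ', hQ'le⟩ := Ideal.exists_minimalPrimes_le (bot_le (a := m'.asIdeal))
  haveI : Q'.IsPrime := hQ'.1.1
  let Q := Q'.comap (algebraMap B B')
  haveI : Q.IsPrime := Ideal.IsPrime.comap _
  have hQ : Q ∈ minimalPrimes B := by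
    refine ⟨⟨inferInstance, bot_le⟩, fun J hJ hle => ?_⟩
    haveI : J.IsPrime := hJ.1
    have hgJ : g ∉ J := fun h => by
      have h' : algebraMap B B' g ∈ Q' := hle h
      exact hQ'.1.1.ne_top (Ideal.eq_top_of_isUnit_mem _ h'
        (IsLocalization.Away.algebraMap_isUnit g))
    have hd : Disjoint (Submonoid.powers g : Set B) J :=
      (Ideal.disjoint_powers_iff_notMem g (Ideal.IsPrime.isRadical ‹J.IsPrime›)).mpr hgJ
    have h1 : (J.map (algebraMap B B')).IsPrime :=
      IsLocalization.isPrime_of_isPrime_disjoint (Submonoid.powers g) _ J inferInstance hd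
    have h2 : J.map (algebraMap B B') ≤ Q' := Ideal.map_le_iff_le_comap.mpr hle
    have h3 : Q' ≤ J.map (algebraMap B B') := hQ'.2 ⟨h1, bot_le⟩ h2
    calc Q ≤ (J.map (algebraMap B B')).comap (algebraMap B B') := Ideal.comap_mono h3
      _ = J := IsLocalization.under_map_of_isPrime_disjoint (Submonoid.powers g) B' ‹_› hd
  have hQs : Algebra.IsSmoothAt K Q := isSmoothAt_of_minimal K hQ (hmin Q hQ)
  haveI : Algebra.IsSmoothAt K Q' := by
    have h : (⟨Q', inferInstance⟩ : PrimeSpectrum B') ∈
        PrimeSpectrum.comap (algebraMap B B') ⁻¹' Algebra.smoothLocus K B := hQs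
    rwa [Algebra.smoothLocus_comap_of_isLocalization g] at h
  have h : Algebra.IsSmoothAt K m'.asIdeal := Point.isSmoothAt_closed K bB m'.asIdeal
    ((dimAt_eq_of_isSmoothAt K bB Q').ge.trans (dimAt_mono K hQ'le))
  have h' : m' ∈ Algebra.smoothLocus K B' := h
  rw [← Algebra.smoothLocus_comap_of_isLocalization g, Set.mem_preimage, hm'] at h'
  exact h'

omit [Algebra.FiniteType K B] in
theorem isReduced_of_smooth [Algebra.Smooth K B] : IsReduced B := by
  refine ⟨fun x hx => ?_⟩
  obtain ⟨s, hs, hstd⟩ := Algebra.Smooth.exists_span_eq_top_isStandardSmooth (R := K) (S := B)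
  have h1 : ∀ f : s, ∃ n : ℕ, (f : B) ^ n * x = 0 := fun f => by
    have : IsReduced (Localization.Away (f : B)) :=
      Groth.Agent.Lib.GrpSch.isReduced_of_isStandardSmooth (algebraMap K (Localization.Away (f : B)))
        (RingHom.isStandardSmooth_algebraMap.mpr (hstd f f.2))
    have h0 := (hx.map (algebraMap B (Localization.Away (f : B)))).eq_zero
    obtain ⟨⟨_, n, rfl⟩, hn⟩ :=
      (IsLocalization.map_eq_zero_iff (Submonoid.powers (f : B)) _ x).mp h0
    exact ⟨n, hn⟩
  choose n hn using h1
  have htop : Ideal.span (Set.range fun f : s => (f : B) ^ n f) = ⊤ :=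
    Ideal.span_range_pow_eq_top _ (by simpa using hs) n
  have : ∀ y ∈ Ideal.span (Set.range fun f : s => (f : B) ^ n f), y * x = 0 := fun y hy => by
    induction hy using Submodule.span_induction with
    | mem y hy => obtain ⟨f, rfl⟩ := hy; exact hn f
    | zero => exact zero_mul x
    | add a b _ _ ha hb => rw [add_mul, ha, hb, add_zero]
    | smul a b _ hb => rw [smul_eq_mul, mul_assoc, hb, mul_zero]
  have h := this 1 (htop ▸ Submodule.mem_top)
  rwa [one_mul] at h

/-- Smoothness over a field. -/
theorem smooth_iff (k A : Type u) [Field k] [CommRing A] [Algebra k A] [Algebra.FiniteType k A] :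
    Algebra.Smooth k A ↔
      Module.Projective A (KaehlerDifferential k A) ∧
        ∀ (p : Ideal A) [p.IsPrime], p ∈ minimalPrimes A →
          Algebra.IsGeometricallyReduced k (Localization.AtPrime p) := by
  let K := AlgebraicClosure k
  constructor
  · intro h
    refine ⟨inferInstance, fun p _ _ => (Algebra.isGeometricallyReduced_field_iff k _).mpr ?_⟩
    haveI : IsReduced (K ⊗[k] A) := isReduced_of_smooth K (B := K ⊗[k] A)
    let ψ : K ⊗[k] A →ₐ[K] K ⊗[k] Localization.AtPrime p :=
      Algebra.TensorProduct.map (AlgHom.id K K) (IsScalarTower.toAlgHom k A _)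
    letI : Algebra (K ⊗[k] A) (K ⊗[k] Localization.AtPrime p) := ψ.toRingHom.toAlgebra
    haveI : IsScalarTower K (K ⊗[k] A) (K ⊗[k] Localization.AtPrime p) :=
      IsScalarTower.of_algebraMap_eq fun x => (ψ.commutes x).symm
    haveI := IsLocalization.tensorProduct_tensorProduct_right k K p.primeCompl
      (Localization.AtPrime p) (by ext x; simp [RingHom.algebraMap_toAlgebra, ψ])
    exact isReduced_localizationPreserves
      (p.primeCompl.map (Algebra.TensorProduct.includeRight (R := k) (A := K))) _
      (inferInstance : IsReduced (K ⊗[k] A))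
  · rintro ⟨hproj, hmin⟩
    letI : Algebra A (K ⊗[k] A) := Algebra.TensorProduct.rightAlgebra
    haveI : Algebra.IsPushout k K A (K ⊗[k] A) := inferInstance
    haveI := hproj
    haveI : Module.Projective (K ⊗[k] A) (Ω[K ⊗[k] A⁄K]) :=
      Module.Projective.of_equiv (KaehlerDifferential.tensorKaehlerEquiv k K A (K ⊗[k] A))
    have : Algebra.Smooth K (K ⊗[k] A) := by
      refine smooth_of_isAlgClosed K inferInstance fun Q _ hQ x hx => ?_
      haveI : Module.Flat A (K ⊗[k] A) := Module.Flat.of_linearEquiv
        ((AlgEquiv.ofRingEquiv (f := (Algebra.TensorProduct.comm k K A).toRingEquiv)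
          (fun x => by simp [RingHom.algebraMap_toAlgebra])).toLinearEquiv :
            K ⊗[k] A ≃ₗ[A] A ⊗[k] K)
      let q := Q.under A
      have hq : q ∈ minimalPrimes A := by
        refine ⟨⟨inferInstance, bot_le⟩, fun J hJ hle => ?_⟩
        haveI : J.IsPrime := hJ.1
        obtain ⟨Q', hQ'le, hQ'p, hQ'o⟩ :=
          Ideal.exists_ideal_le_liesOver_of_le (S := K ⊗[k] A) Q hle
        have : Q ≤ Q' := hQ.2 ⟨hQ'p, bot_le⟩ hQ'le
        rw [hQ'o.over]
        exact Ideal.comap_mono this
      haveI := hmin q hq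
      haveI : IsReduced (K ⊗[k] Localization.AtPrime q) := inferInstance
      let ψ : K ⊗[k] A →ₐ[K] K ⊗[k] Localization.AtPrime q :=
        Algebra.TensorProduct.map (AlgHom.id K K) (IsScalarTower.toAlgHom k A _)
      letI : Algebra (K ⊗[k] A) (K ⊗[k] Localization.AtPrime q) := ψ.toRingHom.toAlgebra
      haveI : IsScalarTower K (K ⊗[k] A) (K ⊗[k] Localization.AtPrime q) :=
        IsScalarTower.of_algebraMap_eq fun x => (ψ.commutes x).symm
      haveI := IsLocalization.tensorProduct_tensorProduct_right k K q.primeCompl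
        (Localization.AtPrime q) (by ext x; simp [RingHom.algebraMap_toAlgebra, ψ])
      have h0 := (hx.map (algebraMap (K ⊗[k] A) (K ⊗[k] Localization.AtPrime q))).eq_zero
      obtain ⟨⟨_, s, hs, rfl⟩, hsx⟩ := (IsLocalization.map_eq_zero_iff
        (q.primeCompl.map (Algebra.TensorProduct.includeRight (R := k) (A := K))) _ x).mp h0
      exact (IsLocalization.map_eq_zero_iff Q.primeCompl _ x).mpr
        ⟨⟨_, fun h => hs h⟩, hsx⟩
    haveI : Algebra.FinitePresentation k A := Algebra.FinitePresentation.of_finiteType.mp ‹_›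
    exact .of_smooth_tensorProduct_of_faithfullyFlat K

end Groth.Agent.Lib.JacCrit.Minimal
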