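import Groth.Prelude.Def_Found
import Groth.Agent.Lib.JacCrit.RegularOfSmooth
import Groth.Agent.Lib.JacCrit.Regular
import Mathlib.RingTheory.Smooth.Field
import Mathlib.RingTheory.Smooth.Locus
import Mathlib.RingTheory.Etale.Descent
import Mathlib.RingTheory.RingHom.Flat
import Mathlib.RingTheory.Ideal.KrullsHeightTheorem
import Mathlib.FieldTheory.IsAlgClosed.AlgebraicClosure

/-!
# Smoothness over a field is geometric regularity
-/

universe u

open TensorProduct IsLocalRing

namespace Groth.Agent.Lib.JacCrit.GeomRegular

variable (k : Type u) [Field k] {F : Type u} [CommRing F] [Algebra k F] [Algebra.FiniteType k F]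

attribute [local instance] Algebra.TensorProduct.rightAlgebra in
/-- Descent of smoothness at a point from an algebraic extension. -/
theorem isSmoothAt_of_forall_over (K : Type u) [Field K] [Algebra k K] [Algebra.IsAlgebraic k K]
    (q : Ideal F) [q.IsPrime]
    (hover : ∀ P : PrimeSpectrum (K ⊗[k] F),
      PrimeSpectrum.comap (algebraMap F (K ⊗[k] F)) P = ⟨q, inferInstance⟩ →
        P ∈ Algebra.smoothLocus K (K ⊗[k] F)) :
    Algebra.IsSmoothAt k q := by
  let B := K ⊗[k] F
  haveI : Algebra.IsPushout k K F B := inferInstance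
  haveI : Algebra.FinitePresentation k F := Algebra.FinitePresentation.of_finiteType.mp ‹_›
  haveI : Algebra.IsIntegral k K := Algebra.IsAlgebraic.isIntegral
  haveI : Algebra.IsIntegral F B := Algebra.IsPushout.isIntegral' k F K B
  obtain ⟨_, ⟨g, rfl⟩, hpg, hg⟩ :=
    PrimeSpectrum.isTopologicalBasis_basic_opens.exists_subset_of_mem_open
      (show (⟨q, inferInstance⟩ : PrimeSpectrum F) ∈
          (PrimeSpectrum.comap (algebraMap F B) '' (Algebra.smoothLocus K B)ᶜ)ᶜ from
        fun ⟨P, hP, hPp⟩ => hP (hover P hPp))
      ((PrimeSpectrum.isClosedMap_comap_of_isIntegral (algebraMap F B)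
        (fun x => Algebra.IsIntegral.isIntegral x) _
          (Algebra.isOpen_smoothLocus (R := K) (A := B)).isClosed_compl).isOpen_compl)
  let A' := Localization.Away g
  let B' := K ⊗[k] A'
  let ψ : B →ₐ[K] B' := Algebra.TensorProduct.map (AlgHom.id K K) (IsScalarTower.toAlgHom k F A')
  letI : Algebra B B' := ψ.toRingHom.toAlgebra
  haveI : IsScalarTower K B B' := IsScalarTower.of_algebraMap_eq fun x => (ψ.commutes x).symm
  haveI : IsLocalization.Away (algebraMap F B g) B' := by
    have := IsLocalization.tensorProduct_tensorProduct_right k K (Submonoid.powers g) A' (by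
      ext x; simp [RingHom.algebraMap_toAlgebra, ψ]; rfl)
    rwa [Submonoid.map_powers] at this
  haveI : Algebra.Smooth K B' := by
    haveI : Algebra.FinitePresentation K B' := inferInstance
    refine ⟨Algebra.smoothLocus_eq_univ_iff.mp ?_, inferInstance⟩
    rw [← Algebra.smoothLocus_comap_of_isLocalization (algebraMap F B g), Set.eq_univ_iff_forall]
    intro P
    by_contra hP
    refine hg (show PrimeSpectrum.comap (algebraMap F B) (PrimeSpectrum.comap (algebraMap B B') P) ∈
      (PrimeSpectrum.basicOpen g : Set (PrimeSpectrum F)) from fun hgP => ?_) ⟨_, hP, rfl⟩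
    exact P.isPrime.ne_top (Ideal.eq_top_of_isUnit_mem _ hgP
      (IsLocalization.Away.algebraMap_isUnit (S := B') (algebraMap F B g)))
  haveI : Algebra.Smooth k A' := .of_smooth_tensorProduct_of_faithfullyFlat K
  exact (Algebra.basicOpen_subset_smoothLocus_iff_smooth.mpr this) hpg

/-- Smooth at `q`: every base change is regular over `q`. -/
theorem isRegularLocalRing_of_isSmoothAt (k' : Type u) [Field k'] [Algebra k k']
    (q : Ideal F) [q.IsPrime] [Algebra.IsSmoothAt k q] (P : Ideal (k' ⊗[k] F)) [P.IsPrime]
    (hP : P.comap (Algebra.TensorProduct.includeRight (R := k) (A := k') (B := F)) = q) :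
    IsRegularLocalRing (Localization.AtPrime P) := by
  haveI : Algebra.FinitePresentation k F := Algebra.FinitePresentation.of_finiteType.mp ‹_›
  obtain ⟨g, hg, hs⟩ := Algebra.IsSmoothAt.exists_notMem_smooth k q
  let A' := Localization.Away g
  let B := k' ⊗[k] F
  let B' := k' ⊗[k] A'
  haveI : Algebra.Smooth k A' := hs
  let ψ : B →ₐ[k'] B' := Algebra.TensorProduct.map (AlgHom.id k' k') (IsScalarTower.toAlgHom k F A')
  letI : Algebra B B' := ψ.toRingHom.toAlgebra
  haveI : IsScalarTower k' B B' := IsScalarTower.of_algebraMap_eq fun x => (ψ.commutes x).symm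
  let g' : B := (1 : k') ⊗ₜ[k] g
  haveI : IsLocalization.Away g' B' := by
    have := IsLocalization.tensorProduct_tensorProduct_right k k' (Submonoid.powers g) A' (by
      ext x; simp [RingHom.algebraMap_toAlgebra, ψ]; rfl)
    rwa [Submonoid.map_powers] at this
  haveI : Algebra.IsSmoothAt k' P := by
    obtain ⟨P', hP'⟩ : (⟨P, inferInstance⟩ : PrimeSpectrum B) ∈
        Set.range (PrimeSpectrum.comap (algebraMap B B')) := by
      rw [PrimeSpectrum.localization_away_comap_range B' g']
      intro h
      exact hg (hP ▸ h)
    have h1 : P' ∈ Algebra.smoothLocus k' B' := by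
      rw [Algebra.smoothLocus_eq_univ]; trivial
    rw [← Algebra.smoothLocus_comap_of_isLocalization g', Set.mem_preimage, hP'] at h1
    exact h1
  exact RegularOfSmooth.isRegularLocalRing k' P

omit [Algebra.FiniteType k F] in
/-- A flat extension in which the prime is generated by a regular one below is regular. -/
theorem isRegularLocalRing_of_map_eq {A B : Type u} [CommRing A] [CommRing B] [IsNoetherianRing A]
    [IsNoetherianRing B] [Algebra A B] [Module.Flat A B] (P : Ideal B) [P.IsPrime] (P' : Ideal A)
    [P'.IsPrime] (hP : P' = P.comap (algebraMap A B)) (hgen : P = P'.map (algebraMap A B))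
    [IsRegularLocalRing (Localization.AtPrime P')] : IsRegularLocalRing (Localization.AtPrime P) := by
  classical
  haveI : P.LiesOver P' := ⟨hP⟩
  have hheight : P'.height ≤ P.height := by
    rw [Ideal.height_eq_height_add_of_liesOver_of_hasGoingDown P' P]
    exact le_self_add
  let L := Localization.AtPrime P'
  let L' := Localization.AtPrime P
  let g : L →+* L' := Localization.localRingHom P' P (algebraMap A B) hP
  have hm : maximalIdeal L' = (maximalIdeal L).map g := by
    have h1 : (P'.map (algebraMap A B)).map (algebraMap B L') =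
        (P'.map (algebraMap A L)).map g := by
      rw [Ideal.map_map, Ideal.map_map]
      congr 1
      ext y
      exact (Localization.localRingHom_to_map P' P (algebraMap A B) hP y).symm
    rw [← hgen, Localization.AtPrime.map_eq_maximalIdeal, Localization.AtPrime.map_eq_maximalIdeal] at h1
    exact h1
  obtain ⟨w, hw_card, hw⟩ :=
    Submodule.FG.exists_span_finset_card_eq_spanFinrank (IsNoetherian.noetherian (maximalIdeal L))
  haveI : IsNoetherianRing L' := IsLocalization.isNoetherianRing P.primeCompl _ inferInstance
  refine IsRegularLocalRing.of_spanFinrank_maximalIdeal_le L' ?_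
  rw [IsLocalization.AtPrime.ringKrullDim_eq_height P L']
  refine le_trans ?_ (WithBot.coe_le_coe.mpr hheight)
  rw [← IsLocalization.AtPrime.ringKrullDim_eq_height P' L,
    ← IsRegularLocalRing.spanFinrank_maximalIdeal, hm, ← hw_card,
    show maximalIdeal L = Ideal.span (w : Set L) from hw.symm, Ideal.map_span, ← Finset.coe_image]
  norm_cast
  refine (Submodule.spanFinrank_span_le_ncard_of_finite (Finset.finite_toSet _)).trans ?_
  rw [Set.ncard_coe_finset]
  exact Finset.card_image_le

/-- Regularity of all finite base changes over `q` gives smoothness at `q`. -/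
theorem isSmoothAt_of_forall_regular (q : Ideal F) [q.IsPrime]
    (h : ∀ (k' : Type u) [Field k'] [Algebra k k'], Module.Finite k k' →
      ∀ (P : Ideal (k' ⊗[k] F)) [P.IsPrime],
        P.comap (Algebra.TensorProduct.includeRight (R := k) (A := k') (B := F)) = q →
          IsRegularLocalRing (Localization.AtPrime P)) :
    Algebra.IsSmoothAt k q := by
  classical
  refine isSmoothAt_of_forall_over k (AlgebraicClosure k) q fun P hP => ?_
  set K := AlgebraicClosure k
  let B := K ⊗[k] F
  haveI : IsNoetherianRing B := Algebra.FiniteType.isNoetherianRing K B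
  obtain ⟨s, hs⟩ := IsNoetherian.noetherian P.asIdeal
  choose t ht using fun x : B => TensorProduct.exists_finset x
  let k' : IntermediateField k K :=
    IntermediateField.adjoin k ((s.biUnion fun x => (t x).image Prod.fst : Finset K) : Set K)
  haveI : FiniteDimensional k k' := IntermediateField.finiteDimensional_adjoin fun x _ =>
    Algebra.IsIntegral.isIntegral x
  let B' := k' ⊗[k] F
  let φ : B' →ₐ[k] B := Algebra.TensorProduct.map k'.val (AlgHom.id k F)
  let P' : Ideal B' := P.asIdeal.comap φ.toRingHom
  haveI : P'.IsPrime := Ideal.IsPrime.comap _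
  have hP' : P'.comap (Algebra.TensorProduct.includeRight (R := k) (A := k') (B := F)) = q := by
    ext a
    change φ ((1 : k') ⊗ₜ a) ∈ P.asIdeal ↔ _
    rw [Algebra.TensorProduct.map_tmul, map_one, AlgHom.id_apply]
    exact Ideal.ext_iff.mp (congrArg PrimeSpectrum.asIdeal hP) a
  haveI := h k' inferInstance P' hP'
  letI : Algebra B' B := φ.toRingHom.toAlgebra
  haveI : Module.Flat B' B := by
    have hf : (k'.val).toRingHom.Flat := by
      letI := (k'.val).toRingHom.toAlgebra
      exact (inferInstance : Module.Flat k' K)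
    exact RingHom.Flat.tensorProductMap (f := k'.val) (g := AlgHom.id k F) hf (RingHom.Flat.id F)
  haveI : IsNoetherianRing B' := Algebra.FiniteType.isNoetherianRing k' B'
  have hgen : P.asIdeal = P'.map φ.toRingHom := by
    refine le_antisymm ?_ Ideal.map_comap_le
    rw [← hs, Submodule.span_le]
    intro x hx
    have hxP : x ∈ P.asIdeal := hs ▸ Submodule.subset_span hx
    have hmem : ∀ i : {i // i ∈ t x}, i.1.1 ∈ k' := fun i => IntermediateField.subset_adjoin k _
      (Finset.mem_biUnion.mpr ⟨x, hx, Finset.mem_image.mpr ⟨i.1, i.2, rfl⟩⟩)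
    let y : B' := ∑ i : {i // i ∈ t x}, (⟨i.1.1, hmem i⟩ : k') ⊗ₜ[k] i.1.2
    have hy : φ y = x := by
      refine Eq.trans ?_ (ht x).symm
      rw [← Finset.sum_coe_sort (t x) fun i => i.1 ⊗ₜ[k] i.2]
      refine (map_sum φ _ _).trans (Finset.sum_congr rfl fun i _ => ?_)
      exact Algebra.TensorProduct.map_tmul _ _ _ _
    rw [SetLike.mem_coe, ← hy]
    exact Ideal.mem_map_of_mem φ.toRingHom (show φ y ∈ P.asIdeal from hy.symm ▸ hxP)
  let L' := Localization.AtPrime P.asIdeal
  haveI : IsRegularLocalRing L' :=
    isRegularLocalRing_of_map_eq (A := k' ⊗[k] F) P.asIdeal P' rfl hgen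
  haveI : Algebra.EssFiniteType B L' := .of_isLocalization _ P.asIdeal.primeCompl
  haveI : Algebra.EssFiniteType K L' := .comp K B L'
  haveI : Algebra.EssFiniteType L' P.asIdeal.ResidueField := .of_surjective
    (IsScalarTower.toAlgHom L' L' P.asIdeal.ResidueField) IsLocalRing.residue_surjective
  haveI : Algebra.EssFiniteType K P.asIdeal.ResidueField := .comp K L' _
  haveI : Algebra.FormallySmooth K P.asIdeal.ResidueField := Algebra.FormallySmooth.of_perfectField
  exact Regular.isSmoothAt K P.asIdeal

/-- Smoothness over a field is geometric regularity. -/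
theorem smooth_iff_isGeometricallyRegular :
    Algebra.Smooth k F ↔ CAlg.IsGeometricallyRegular k F := by
  haveI : Algebra.FinitePresentation k F := Algebra.FinitePresentation.of_finiteType.mp ‹_›
  constructor
  · intro h k' _ _ _
    haveI : IsNoetherianRing (k' ⊗[k] F) := Algebra.FiniteType.isNoetherianRing k' _
    refine { isRegularLocalRing_localization := fun P _ => ?_ }
    haveI : Algebra.IsSmoothAt k
        (P.comap (Algebra.TensorProduct.includeRight (R := k) (A := k') (B := F))) := by
      have h' : (⟨P.comap (Algebra.TensorProduct.includeRight (R := k) (A := k') (B := F)),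
          inferInstance⟩ : PrimeSpectrum F) ∈ Algebra.smoothLocus k F := by
        rw [Algebra.smoothLocus_eq_univ]; trivial
      exact h'
    exact isRegularLocalRing_of_isSmoothAt k k'
      (P.comap (Algebra.TensorProduct.includeRight (R := k) (A := k') (B := F))) P rfl
  · intro h
    refine ⟨Algebra.smoothLocus_eq_univ_iff.mp (Set.eq_univ_iff_forall.mpr fun q => ?_), inferInstance⟩
    exact isSmoothAt_of_forall_regular k q.asIdeal fun k' _ _ hk' P _ _ =>
      (h k' hk').isRegularLocalRing_localization P

/-- The local form. -/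
theorem isSmoothAt_iff (q : Ideal F) [q.IsPrime] :
    Algebra.IsSmoothAt k q ↔ CAlg.IsGeometricallyRegular k (Localization.AtPrime q) := by
  let L := Localization.AtPrime q
  have key : ∀ (k' : Type u) [Field k'] [Algebra k k'],
      letI : Algebra (k' ⊗[k] F) (k' ⊗[k] L) := (Algebra.TensorProduct.map (AlgHom.id k' k')
        (IsScalarTower.toAlgHom k F L)).toRingHom.toAlgebra
      IsLocalization (q.primeCompl.map
        (Algebra.TensorProduct.includeRight (R := k) (A := k') (B := F))) (k' ⊗[k] L) := by
    intro k' _ _
    let ψ : k' ⊗[k] F →ₐ[k'] k' ⊗[k] L :=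
      Algebra.TensorProduct.map (AlgHom.id k' k') (IsScalarTower.toAlgHom k F L)
    letI : Algebra (k' ⊗[k] F) (k' ⊗[k] L) := ψ.toRingHom.toAlgebra
    haveI : IsScalarTower k' (k' ⊗[k] F) (k' ⊗[k] L) :=
      IsScalarTower.of_algebraMap_eq fun x => (ψ.commutes x).symm
    exact IsLocalization.tensorProduct_tensorProduct_right k k' q.primeCompl L
      (by ext x; simp [RingHom.algebraMap_toAlgebra, ψ])
  constructor
  · intro hs k' _ _ _
    letI : Algebra (k' ⊗[k] F) (k' ⊗[k] L) := (Algebra.TensorProduct.map (AlgHom.id k' k')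
      (IsScalarTower.toAlgHom k F L)).toRingHom.toAlgebra
    haveI := key k'
    set M := q.primeCompl.map (Algebra.TensorProduct.includeRight (R := k) (A := k') (B := F))
    haveI : IsNoetherianRing (k' ⊗[k] F) := Algebra.FiniteType.isNoetherianRing k' _
    haveI : IsNoetherianRing (k' ⊗[k] L) := IsLocalization.isNoetherianRing M _ inferInstance
    refine { isRegularLocalRing_localization := fun Q _ => ?_ }
    set Q₀ := Q.under (k' ⊗[k] F)
    have hdisj : Disjoint (M : Set (k' ⊗[k] F)) Q₀ :=
      ((IsLocalization.isPrime_iff_isPrime_disjoint M (k' ⊗[k] L) Q).mp inferInstance).2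
    set q₀ := Q₀.comap (Algebra.TensorProduct.includeRight (R := k) (A := k') (B := F))
    have hq₀ : q₀ ≤ q := fun a ha => by
      by_contra haq
      exact Set.disjoint_left.mp hdisj ⟨a, haq, rfl⟩ ha
    haveI : Algebra.FinitePresentation k F := Algebra.FinitePresentation.of_finiteType.mp ‹_›
    haveI : Algebra.IsSmoothAt k q₀ :=
      (Algebra.isOpen_smoothLocus (R := k) (A := F)).stableUnderGeneralization
        ((PrimeSpectrum.le_iff_specializes (⟨q₀, inferInstance⟩ : PrimeSpectrum F)
          ⟨q, inferInstance⟩).mp hq₀) hs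
    haveI := isRegularLocalRing_of_isSmoothAt k k' q₀ Q₀ rfl
    haveI := IsLocalization.isLocalization_isLocalization_atPrime_isLocalization M
      (Localization.AtPrime Q) Q
    exact IsRegularLocalRing.of_ringEquiv (IsLocalization.algEquiv Q₀.primeCompl
      (Localization.AtPrime Q₀) (Localization.AtPrime Q)).toRingEquiv
  · intro hg
    refine isSmoothAt_of_forall_regular k q fun k' _ _ hk' P _ hP => ?_
    letI : Algebra (k' ⊗[k] F) (k' ⊗[k] L) := (Algebra.TensorProduct.map (AlgHom.id k' k')
      (IsScalarTower.toAlgHom k F L)).toRingHom.toAlgebra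
    haveI := key k'
    set M := q.primeCompl.map (Algebra.TensorProduct.includeRight (R := k) (A := k') (B := F))
    have hdisj : Disjoint (M : Set (k' ⊗[k] F)) P := Set.disjoint_left.mpr fun x hx hxP => by
      obtain ⟨a, ha, rfl⟩ := hx
      exact ha (hP ▸ hxP)
    set Q := P.map (algebraMap (k' ⊗[k] F) (k' ⊗[k] L))
    haveI : Q.IsPrime := IsLocalization.isPrime_of_isPrime_disjoint M _ P inferInstance hdisj
    haveI := (hg k' hk').isRegularLocalRing_localization Q
    have hQP : Q.under (k' ⊗[k] F) = P :=
      IsLocalization.under_map_of_isPrime_disjoint M (k' ⊗[k] L) ‹_› hdisj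
    have key2 : ∀ (P₁ : Ideal (k' ⊗[k] F)) [P₁.IsPrime], P₁ = P →
        IsRegularLocalRing (Localization.AtPrime P₁) → IsRegularLocalRing (Localization.AtPrime P) := by
      rintro P₁ _ rfl h; exact h
    refine key2 _ hQP ?_
    haveI := IsLocalization.isLocalization_isLocalization_atPrime_isLocalization M
      (Localization.AtPrime Q) Q
    exact IsRegularLocalRing.of_ringEquiv (R := Localization.AtPrime Q) (IsLocalization.algEquiv (Q.under (k' ⊗[k] F)).primeCompl
      (Localization.AtPrime Q) (Localization.AtPrime (Q.under (k' ⊗[k] F)))).toRingEquiv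

end Groth.Agent.Lib.JacCrit.GeomRegular
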