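import Mathlib.RingTheory.Etale.Kaehler
import Mathlib.RingTheory.Kaehler.Polynomial

/-!
# Étale over a polynomial ring iff the differentials form a basis
-/

universe u

open TensorProduct

namespace Groth.Agent.Lib.JacCrit.EtaleBasis

/-- For a formally smooth composite: formally étale iff the differentials base change. -/
theorem formallyEtale_iff_bijective (R S T : Type u) [CommRing R] [CommRing S] [CommRing T]
    [Algebra R S] [Algebra R T] [Algebra S T] [IsScalarTower R S T] [Algebra.FormallySmooth R T] :
    Algebra.FormallyEtale S T ↔ Function.Bijective (KaehlerDifferential.mapBaseChange R S T) := by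
  constructor
  · intro _
    exact (KaehlerDifferential.tensorKaehlerEquivOfFormallyEtale R S T).bijective
  · intro h
    refine ⟨subsingleton_of_forall_eq 0 fun z => ?_, subsingleton_of_forall_eq 0 fun z => ?_⟩
    · obtain ⟨y, rfl⟩ := KaehlerDifferential.map_surjective R S T z
      exact (KaehlerDifferential.exact_mapBaseChange_map R S T y).mpr (h.2 y)
    · have hδ : Algebra.H1Cotangent.δ R S T z = 0 :=
        h.1 (((Algebra.H1Cotangent.exact_δ_mapBaseChange R S T _).mpr ⟨z, rfl⟩).trans (map_zero _).symm)
      obtain ⟨y, rfl⟩ := (Algebra.H1Cotangent.exact_map_δ R S T z).mp hδ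
      rw [Subsingleton.elim y 0, map_zero]

variable {A T : Type u} [CommRing A] [CommRing T] {r : ℕ} [Algebra A T]
  [Algebra (MvPolynomial (Fin r) A) T] [IsScalarTower A (MvPolynomial (Fin r) A) T]

/-- The images of the basis. -/
theorem bijective_iff :
    Function.Bijective (KaehlerDifferential.mapBaseChange A (MvPolynomial (Fin r) A) T) ↔
      LinearIndependent T (fun i : Fin r => KaehlerDifferential.D A T
          (algebraMap (MvPolynomial (Fin r) A) T (MvPolynomial.X i))) ∧
        Submodule.span T (Set.range fun i : Fin r => KaehlerDifferential.D A T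
          (algebraMap (MvPolynomial (Fin r) A) T (MvPolynomial.X i))) = ⊤ := by
  set f := KaehlerDifferential.mapBaseChange A (MvPolynomial (Fin r) A) T
  set v := fun i : Fin r => KaehlerDifferential.D A T
    (algebraMap (MvPolynomial (Fin r) A) T (MvPolynomial.X i))
  let b := (KaehlerDifferential.mvPolynomialBasis A (Fin r)).baseChange T
  have hv : f ∘ b = v := funext fun i => by
    simp [f, b, v, Module.Basis.baseChange_apply, KaehlerDifferential.mvPolynomialBasis_apply,
      KaehlerDifferential.mapBaseChange_tmul]
  constructor
  · intro h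
    let b' := b.map (LinearEquiv.ofBijective f h)
    have : v = ⇑b' := hv.symm
    rw [this]
    exact ⟨b'.linearIndependent, b'.span_eq⟩
  · rintro ⟨hli, hsp⟩
    let b' := Module.Basis.mk hli hsp.ge
    have : f = (b.equiv b' (Equiv.refl _)).toLinearMap := b.ext fun i => by
      rw [LinearEquiv.coe_coe, Module.Basis.equiv_apply, Module.Basis.mk_apply]
      exact congrFun hv i
    rw [this]
    exact (b.equiv b' (Equiv.refl _)).bijective

end Groth.Agent.Lib.JacCrit.EtaleBasis
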