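import Mathlib.RingTheory.Smooth.Fiber
import Mathlib.RingTheory.Smooth.Locus
import Mathlib.RingTheory.LocalRing.ResidueField.Fiber

/-!
# Smoothness at a point from flatness at the point and a smooth point of the fibre
-/

universe u

open TensorProduct

namespace Groth.Agent.Lib.JacCrit.Fiber

variable {R S : Type u} [CommRing R] [CommRing S] [Algebra R S]

/-- A localisation in which `h` becomes invertible is smooth if `F[1/h]` is. -/
theorem formallySmooth_localization {κ F : Type u} [CommRing κ] [CommRing F] [Algebra κ F] (h : F)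
    (hs : Algebra.FormallySmooth κ (Localization.Away h)) (M : Submonoid F)
    (L : Type u) [CommRing L] [Algebra F L] [Algebra κ L] [IsScalarTower κ F L] [IsLocalization M L]
    (c : F) (hc : c * h ∈ M) : Algebra.FormallySmooth κ L := by
  have hunit : IsUnit (algebraMap F L h) := by
    have h1 : IsUnit (algebraMap F L (c * h)) := IsLocalization.map_units L (⟨c * h, hc⟩ : M)
    rw [map_mul] at h1
    exact isUnit_of_mul_isUnit_right h1
  have hpow : ∀ x : Submonoid.powers h, IsUnit (Algebra.ofId F L x) := fun x => by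
    obtain ⟨n, hn⟩ := x.2
    change IsUnit (algebraMap F L x.1)
    rw [← hn, map_pow]
    exact hunit.pow n
  let ψ : Localization.Away h →ₐ[F] L :=
    IsLocalization.liftAlgHom (M := Submonoid.powers h) (f := Algebra.ofId F L) hpow
  letI := ψ.toRingHom.toAlgebra
  haveI : IsScalarTower F (Localization.Away h) L :=
    IsScalarTower.of_algebraMap_eq fun x => (ψ.commutes x).symm
  haveI : IsScalarTower κ (Localization.Away h) L := .to₁₃₄ _ F _ _
  haveI : Algebra.FormallyEtale F L := .of_isLocalization M
  haveI : Algebra.FormallyEtale F (Localization.Away h) := .of_isLocalization (Submonoid.powers h)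
  haveI : Algebra.FormallyEtale (Localization.Away h) L := .of_restrictScalars (R := F)
  haveI := hs
  exact .comp κ (Localization.Away h) L

attribute [local instance] Algebra.TensorProduct.rightAlgebra in
theorem isSmoothAt [Algebra.FinitePresentation R S] (p : Ideal R) [p.IsPrime] (q : Ideal S)
    [q.IsPrime] [q.LiesOver p] [Algebra (Localization.AtPrime p) (Localization.AtPrime q)]
    [Localization.AtPrime.IsLiesOverAlgebra p q]
    [Module.Flat (Localization.AtPrime p) (Localization.AtPrime q)]
    (qF : Ideal (p.Fiber S)) [qF.IsPrime]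
    (hqF : qF.comap (Algebra.TensorProduct.includeRight (R := R) (A := p.ResidueField)).toRingHom = q)
    (hs : Algebra.IsSmoothAt p.ResidueField qF) : Algebra.IsSmoothAt R q := by
  let Rp := Localization.AtPrime p
  let Sq := Localization.AtPrime q
  let κ := p.ResidueField
  let F := p.Fiber S
  -- a basic neighbourhood given by an element of `S`
  obtain ⟨h, hh, hsm⟩ := Algebra.IsSmoothAt.exists_notMem_smooth κ qF
  obtain ⟨r, hr, s, e⟩ := Ideal.Fiber.exists_smul_eq_one_tmul _ h
  have hru : IsUnit (algebraMap R F r) := by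
    rw [IsScalarTower.algebraMap_apply R κ F]
    refine (IsUnit.mk0 _ ?_).map _
    rwa [ne_eq, Ideal.algebraMap_residueField_eq_zero]
  have hsq : s ∉ q := by
    rw [← hqF, Ideal.mem_comap]
    change ¬ (1 : κ) ⊗ₜ[R] s ∈ qF
    rw [← e, Algebra.smul_def]
    exact fun hm => hh ((Ideal.unit_mul_mem_iff_mem _ hru).mp hm)
  let L := F ⊗[S] Sq
  haveI : IsLocalization (Algebra.algebraMapSubmonoid F q.primeCompl) L :=
    IsLocalization.tensor Sq q.primeCompl
  haveI : Algebra.FormallySmooth κ L := formallySmooth_localization (κ := κ) h hsm.1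
    (Algebra.algebraMapSubmonoid F q.primeCompl) L (algebraMap R F r)
    (by
      rw [← Algebra.smul_def, e]
      exact ⟨s, hsq, rfl⟩)
  let Sp := Localization (Algebra.algebraMapSubmonoid S p.primeCompl)
  let f : Sp →ₐ[S] Sq := IsLocalization.liftAlgHom (M := Algebra.algebraMapSubmonoid S p.primeCompl)
        (f := Algebra.ofId _ _) (by
      rintro ⟨_, x, hx, rfl⟩
      simpa using! IsLocalization.map_units (M := q.primeCompl) Sq ⟨algebraMap _ _ x,
        by simp_all [q.over_def p]⟩)
  algebraize [f.toRingHom]
  have : IsScalarTower R Sp Sq := .to₁₃₄ _ S _ _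
  have : IsScalarTower Rp Sp Sq := .of_algebraMap_eq' <| by
    apply IsLocalization.ringHom_ext p.primeCompl
    simp only [RingHom.comp_assoc, ← IsScalarTower.algebraMap_eq]
  have : IsLocalization (Algebra.algebraMapSubmonoid Sp q.primeCompl) Sq :=
    .isLocalization_of_submonoid_le _ _ (Algebra.algebraMapSubmonoid S p.primeCompl) _
    (by rintro _ ⟨x, hx, rfl⟩; simp_all [q.over_def p])
  have : Algebra.FinitePresentation Rp Sp := by
    have : Algebra.IsPushout R Rp S Sp :=
      .symm <| Algebra.isPushout_of_isLocalization p.primeCompl _ _ _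
    exact .equiv (Algebra.IsPushout.equiv R Rp S Sp)
  have : Algebra.FormallySmooth (IsLocalRing.ResidueField Rp)
      (IsLocalRing.ResidueField Rp ⊗[Rp] Sq) := by
    let e : κ ⊗[R] S ≃ₐ[S] S ⊗[R] κ :=
      { __ := Algebra.TensorProduct.comm _ _ _, commutes' _ := rfl }
    let e' : (κ ⊗[R] S) ⊗[S] Sq ≃ₐ[R] IsLocalRing.ResidueField Rp ⊗[Rp] Sq :=
      ((Algebra.TensorProduct.comm _ _ _).restrictScalars R).trans <|
      ((Algebra.TensorProduct.congr (.refl (R := S)) e).restrictScalars R).trans <|
      ((Algebra.TensorProduct.cancelBaseChange _ _ S _ _).restrictScalars R).trans <|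
      (Algebra.TensorProduct.comm _ _ _).trans (Algebra.TensorProduct.equivOfCompatibleSMul ..)
    have : e'.toAlgHom.comp (IsScalarTower.toAlgHom R κ _) =
        IsScalarTower.toAlgHom _ _ _ := by ext
    let e'' : (κ ⊗[R] S) ⊗[S] Sq ≃ₐ[κ] IsLocalRing.ResidueField Rp ⊗[Rp] Sq :=
      { __ := e', commutes' r := congr($this r) }
    exact Algebra.FormallySmooth.of_equiv e''
  have := Algebra.FormallySmooth.of_formallySmooth_residueField_tensor
    (R := Rp) (S := Sq) (P := Sp) (Algebra.algebraMapSubmonoid _ q.primeCompl)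
  exact Algebra.FormallySmooth.comp R Rp Sq

end Groth.Agent.Lib.JacCrit.Fiber
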