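import Groth.Agent.Lib.JacCrit.Point
import Groth.Agent.Lib.JacCrit.Fiber
import Groth.Agent.Lib.Kaehler.SmoothChart
import Groth.Agent.Lib.Kaehler.BaseChange

/-!
# The smooth locus: flat, with free differentials of rank the fibre dimension
-/

universe u

open CategoryTheory AlgebraicGeometry TopologicalSpace TensorProduct

namespace Groth.Agent.Lib.JacCrit.Scheme'

open OmegaSh Groth.Agent.Lib.Kaehler

/-- Free tilde: the module has a basis. -/
theorem nonempty_basis_of_tilde_iso {R : CommRingCat.{u}} (M : ModuleCat.{u} R) {n : ℕ}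
    (i : tilde M ≅ FlatMod.freeMod (Spec R) n) : Nonempty (Module.Basis (Fin n) R M) := by
  let N : ModuleCat.{u} R := ModuleCat.of R (Fin n → R)
  let b : Module.Basis (Fin n) R N := Pi.basisFun R (Fin n)
  let e : M ≅ N := (tilde.fullyFaithfulFunctor.preimageIso (i ≪≫ (LocFree.tildeFreeIso b).symm))
  exact ⟨b.map e.symm.toLinearEquiv⟩

/-- The algebraic criterion at a point. -/
theorem isSmoothAt_of_basis {R S : Type u} [CommRing R] [CommRing S] [Algebra R S]
    [Algebra.FinitePresentation R S] {n : ℕ} (b : Module.Basis (Fin n) S (Ω[S⁄R]))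
    (P : PrimeSpectrum S)
    (hflat : (Localization.localRingHom (P.asIdeal.comap (algebraMap R S)) P.asIdeal
      (algebraMap R S) rfl).Flat)
    (hdim : n ≤ Dim.Local.dimAt (PrimeSpectrum.comap (algebraMap R S) P).asIdeal.ResidueField
      (PrimeSpectrum.preimageHomeomorphFiber R S _ ⟨P, rfl⟩).asIdeal) :
    Algebra.IsSmoothAt R P.asIdeal := by
  let p := (PrimeSpectrum.comap (algebraMap R S) P).asIdeal
  haveI : P.asIdeal.LiesOver p := ⟨rfl⟩
  letI := Localization.AtPrime.algebraOfLiesOver p P.asIdeal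
  haveI : Module.Flat (Localization.AtPrime p) (Localization.AtPrime P.asIdeal) := hflat
  let κ := p.ResidueField
  let qF := PrimeSpectrum.preimageHomeomorphFiber R S _ ⟨P, rfl⟩
  letI : Algebra S (p.Fiber S) := Algebra.TensorProduct.rightAlgebra
  let bF : Module.Basis (Fin n) (p.Fiber S) (Ω[p.Fiber S⁄κ]) :=
    (b.baseChange (p.Fiber S)).map (KaehlerDifferential.tensorKaehlerEquiv R κ S (p.Fiber S))
  refine Fiber.isSmoothAt p P.asIdeal qF.asIdeal ?_
    (Point.isSmoothAt_of_basis (n := n) κ bF qF.asIdeal hdim)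
  exact congrArg PrimeSpectrum.asIdeal (congrArg Subtype.val
    ((PrimeSpectrum.preimageHomeomorphFiber R S _).symm_apply_apply ⟨P, rfl⟩))

variable {X Y : Scheme.{u}} {f : X ⟶ Y} [LocallyOfFinitePresentation f]

theorem mem_smoothLocus_of_free {Ω : X.Modules} {d : Der f Ω} (hd : IsUniversal d) (x : X)
    (hflat : (f.stalkMap x).hom.Flat) {U₀ : X.Opens} {n : ℕ} (hx : x ∈ U₀)
    (i : Ω.restrict U₀.ι ≅ FlatMod.freeMod (↑U₀) n)
    (hdim : (n : WithBot ℕ∞) ≤ FlatMor.fibreDimAt f x) : x ∈ f.smoothLocus := by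
  obtain ⟨V, hV, hxV, -⟩ := BaseChange.exists_affine_le (W := (⊤ : Y.Opens)) (x := f x) trivial
  obtain ⟨U, hU, hxU, hUV⟩ := BaseChange.exists_affine_le (W := U₀ ⊓ f ⁻¹ᵁ V) (x := x) ⟨hx, hxV⟩
  have e : U ≤ f ⁻¹ᵁ V := fun y hy => (hUV hy).2
  have hle : U ≤ U₀ := fun y hy => (hUV hy).1
  letI := (f.appLE V U e).hom.toAlgebra
  haveI : Algebra.FinitePresentation Γ(Y, V) Γ(X, U) := f.finitePresentation_appLE hV hU e
  rw [Scheme.Hom.mem_smoothLocus, formallySmooth_stalkMap_iff V hV U hU e hxU]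
  obtain ⟨j⟩ := Chart.nonempty_restrict_iso f hU hV e hd
  have i' : Ω.restrict hU.fromSpec ≅ FlatMod.freeMod (Spec Γ(X, U)) n :=
    (Scheme.Modules.restrictFunctorComp hU.isoSpec.inv U.ι).app Ω ≪≫
      (Scheme.Modules.restrictFunctor hU.isoSpec.inv).mapIso (Modules.Free.freeOfLE hle i) ≪≫
        Modules.Free.restrictFreeIso hU.isoSpec.inv n
  obtain ⟨b⟩ := nonempty_basis_of_tilde_iso _ (j.symm ≪≫ i')
  let P := hU.primeIdealOf ⟨x, hxU⟩
  refine isSmoothAt_of_basis (R := Γ(Y, V)) (S := Γ(X, U)) (n := n) b P ?_ ?_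
  · have h := (RingHom.Flat.respectsIso.arrow_mk_iso_iff
      (IsAffineOpen.arrowStalkMapIso f V hV U hU e hxU)).mp hflat
    have key : ∀ (J : Ideal Γ(Y, V)) [J.IsPrime]
        (hJ : J = P.asIdeal.comap (f.appLE V U e).hom),
        (Localization.localRingHom J P.asIdeal (f.appLE V U e).hom hJ).Flat →
        (Localization.localRingHom (P.asIdeal.comap (f.appLE V U e).hom) P.asIdeal
          (f.appLE V U e).hom rfl).Flat := by
      rintro J _ rfl h; exact h
    exact key _ congr($(IsAffineOpen.comap_primeIdealOf_appLE V hV U hU e hxU).1).symm h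
  · have h := FibreDim.Chart.fibreDimAt_eq_dimAt f hV.fromSpec hU.fromSpec
      (hV.SpecMap_appLE_fromSpec f hU e) P
    have hP : hU.fromSpec P = x := hU.fromSpec_primeIdealOf ⟨x, hxU⟩
    rw [show hU.fromSpec.base P = x from hP] at h
    rw [h] at hdim
    exact_mod_cast hdim

theorem mem_smoothLocus_iff {Ω : X.Modules} {d : Der f Ω} (hd : IsUniversal d) (x : X) :
    x ∈ f.smoothLocus ↔ (f.stalkMap x).hom.Flat ∧
      ∃ (U : X.Opens) (n : ℕ), x ∈ U ∧ Nonempty (Ω.restrict U.ι ≅ FlatMod.freeMod (↑U) n) ∧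
        FlatMor.fibreDimAt f x = (n : WithBot ℕ∞) := by
  constructor
  · intro hx
    obtain ⟨V, hV, U, hU, e, hxU, hsm⟩ := exists_smooth_of_formallySmooth_stalk f x hx
    letI := (f.appLE V U e).hom.toAlgebra
    haveI : Algebra.Smooth Γ(Y, V) Γ(X, U) := hsm
    haveI : Algebra.IsSmoothAt Γ(Y, V) (hU.primeIdealOf ⟨x, hxU⟩).asIdeal :=
      (formallySmooth_stalkMap_iff V hV U hU e hxU).mp hx
    obtain ⟨g, hg, hgs⟩ := Algebra.IsSmoothAt.exists_notMem_isStandardSmooth Γ(Y, V)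
      (hU.primeIdealOf ⟨x, hxU⟩).asIdeal
    have := hU.isLocalization_basicOpen g
    have e' : X.basicOpen g ≤ f ⁻¹ᵁ V := (X.basicOpen_le g).trans e
    letI := (f.appLE V (X.basicOpen g) e').hom.toAlgebra
    haveI : IsScalarTower Γ(Y, V) Γ(X, U) Γ(X, X.basicOpen g) := IsScalarTower.of_algebraMap_eq
      fun r => congr($((f.appLE_map e (homOfLE (X.basicOpen_le g)).op)) r).symm
    let ε := (IsLocalization.algEquiv (Submonoid.powers g) (Localization.Away g)
      Γ(X, X.basicOpen g)).restrictScalars Γ(Y, V)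
    have hxg : x ∈ X.basicOpen g := by
      have h0 : hU.primeIdealOf ⟨x, hxU⟩ ∈ hU.fromSpec ⁻¹ᵁ X.basicOpen g := by
        rw [hU.fromSpec_preimage_basicOpen]; exact hg
      change hU.fromSpec _ ∈ X.basicOpen g at h0
      rwa [hU.fromSpec_primeIdealOf] at h0
    have hstd : Algebra.IsStandardSmooth Γ(Y, V) Γ(X, X.basicOpen g) :=
      Algebra.IsStandardSmooth.of_algEquiv ε
    obtain ⟨ι, σ, h1, h2, ⟨P⟩⟩ :=
      hstd.out
    haveI : Nonempty (X.basicOpen g) := ⟨⟨x, hxg⟩⟩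
    have hs : RingHom.IsStandardSmoothOfRelativeDimension P.dimension
        (f.appLE V (X.basicOpen g) e').hom := ⟨ι, σ, h1, h2, P, rfl⟩
    refine ⟨?_, _, P.dimension, hxg,
      SmoothChart.nonempty_restrict_free hV (hU.basicOpen g) e' hs hd,
      SmoothChart.fibreDimAt_of_chart hV (hU.basicOpen g) e' hs hxg⟩
    refine (RingHom.Flat.respectsIso.arrow_mk_iso_iff
      (IsAffineOpen.arrowStalkMapIso f V hV U hU e hxU)).mpr ?_
    exact RingHom.Flat.localRingHom (RingHom.Smooth.flat hsm) _ _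
      congr($(IsAffineOpen.comap_primeIdealOf_appLE V hV U hU e hxU).1).symm
  · rintro ⟨hflat, U, n, hx, ⟨i⟩, hn⟩
    exact mem_smoothLocus_of_free hd x hflat hx i hn.ge

end Groth.Agent.Lib.JacCrit.Scheme'
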