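import Groth.Agent.Lib.JacCrit.EtaleBasis
import Groth.Agent.Lib.Kaehler.SmoothChart
import Groth.Agent.Lib.Unram.AtPrime

/-!
# Unramified maps between smooth schemes of the same relative dimension are étale
-/

universe u

open CategoryTheory AlgebraicGeometry TensorProduct

namespace Groth.Agent.Lib.JacCrit.RankEtale

/-- The algebraic statement. -/
theorem formallyEtale (R B C : Type u) [CommRing R] [CommRing B] [CommRing C] [Algebra R B]
    [Algebra R C] [Algebra B C] [IsScalarTower R B C] [Algebra.FormallyUnramified B C]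
    (q : Ideal C) [q.IsPrime] [Algebra.FormallySmooth R (Localization.AtPrime q)] {n : ℕ}
    (bB : Module.Basis (Fin n) (Localization.AtPrime (q.under B)) (Ω[Localization.AtPrime (q.under B)⁄R]))
    (bC : Module.Basis (Fin n) (Localization.AtPrime q) (Ω[Localization.AtPrime q⁄R])) :
    Algebra.FormallyEtale B (Localization.AtPrime q) := by
  let p := q.under B
  let Bp := Localization.AtPrime p
  let Cq := Localization.AtPrime q
  letI : Algebra Bp Cq := (Localization.localRingHom p q (algebraMap B C) rfl).toAlgebra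
  haveI : IsScalarTower B Bp Cq := IsScalarTower.of_algebraMap_eq fun x => by
    rw [RingHom.algebraMap_toAlgebra, Localization.localRingHom_to_map,
      ← IsScalarTower.algebraMap_apply B C Cq]
  haveI : IsScalarTower R Bp Cq := .to₁₃₄ _ B _ _
  haveI : Algebra.FormallyEtale B Bp := .of_isLocalization p.primeCompl
  haveI : Algebra.FormallyEtale C Cq := .of_isLocalization q.primeCompl
  haveI : Algebra.FormallyUnramified B Cq := .comp B C Cq
  haveI : Algebra.FormallyUnramified Bp Cq := .of_restrictScalars B _ _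
  have hsurj : Function.Surjective (KaehlerDifferential.mapBaseChange R Bp Cq) := fun x =>
    (KaehlerDifferential.exact_mapBaseChange_map R Bp Cq x).mp (Subsingleton.elim _ _)
  haveI : Algebra.FormallyEtale Bp Cq := by
    refine (EtaleBasis.formallyEtale_iff_bijective R Bp Cq).mpr ⟨?_, hsurj⟩
    let e : Ω[Cq⁄R] ≃ₗ[Cq] Cq ⊗[Bp] Ω[Bp⁄R] :=
      bC.equiv (bB.baseChange Cq) (Equiv.refl _)
    haveI : Module.Finite Cq (Cq ⊗[Bp] Ω[Bp⁄R]) := Module.Finite.of_basis (bB.baseChange Cq)
    have h := OrzechProperty.injective_of_surjective_endomorphism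
      (e.toLinearMap ∘ₗ KaehlerDifferential.mapBaseChange R Bp Cq) (e.surjective.comp hsurj)
    rw [LinearMap.coe_comp] at h
    exact h.of_comp
  exact .comp B Bp Cq

variable {X S : Scheme.{u}} (f : X ⟶ S) [Smooth f]

/-- Differentials of the local ring of a chart at a smooth point. -/
theorem exists_basis {V : S.Opens} (hV : IsAffineOpen V) {U : X.Opens} (hU : IsAffineOpen U)
    (e : U ≤ f ⁻¹ᵁ V) (P : PrimeSpectrum Γ(X, U)) :
    letI := (f.appLE V U e).hom.toAlgebra
    ∃ m : ℕ, Nonempty (Module.Basis (Fin m) (Localization.AtPrime P.asIdeal)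
        (Ω[Localization.AtPrime P.asIdeal⁄Γ(S, V)])) ∧
      FlatMor.fibreDimAt f (hU.fromSpec P) = (m : WithBot ℕ∞) := by
  letI := (f.appLE V U e).hom.toAlgebra
  haveI : Algebra.Smooth Γ(S, V) Γ(X, U) := f.smooth_appLE hV hU e
  haveI : Algebra.IsSmoothAt Γ(S, V) P.asIdeal :=
    (Algebra.smoothLocus_eq_univ (R := Γ(S, V)) (A := Γ(X, U))).ge (Set.mem_univ P)
  obtain ⟨g, hg, hgs⟩ := Algebra.IsSmoothAt.exists_notMem_isStandardSmooth Γ(S, V) P.asIdeal
  have := hU.isLocalization_basicOpen g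
  have e' : X.basicOpen g ≤ f ⁻¹ᵁ V := (X.basicOpen_le g).trans e
  letI := (f.appLE V (X.basicOpen g) e').hom.toAlgebra
  haveI : IsScalarTower Γ(S, V) Γ(X, U) Γ(X, X.basicOpen g) := IsScalarTower.of_algebraMap_eq
    fun r => congr($((f.appLE_map e (homOfLE (X.basicOpen_le g)).op)) r).symm
  let ε := (IsLocalization.algEquiv (Submonoid.powers g) (Localization.Away g)
    Γ(X, X.basicOpen g)).restrictScalars Γ(S, V)
  haveI hstd : Algebra.IsStandardSmooth Γ(S, V) Γ(X, X.basicOpen g) :=
    Algebra.IsStandardSmooth.of_algEquiv ε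
  obtain ⟨ι, σ, h1, h2, ⟨Q⟩⟩ := hstd.out
  have hs : RingHom.IsStandardSmoothOfRelativeDimension Q.dimension
      (f.appLE V (X.basicOpen g) e').hom := ⟨ι, σ, h1, h2, Q, rfl⟩
  have hxg : hU.fromSpec P ∈ X.basicOpen g := by
    change P ∈ hU.fromSpec ⁻¹ᵁ X.basicOpen g
    rw [hU.fromSpec_preimage_basicOpen]
    exact hg
  refine ⟨Q.dimension, ?_, Kaehler.SmoothChart.fibreDimAt_of_chart hV (hU.basicOpen g) e' hs hxg⟩
  let C := Γ(X, X.basicOpen g)
  haveI hn : Algebra.IsStandardSmoothOfRelativeDimension Q.dimension Γ(S, V) C :=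
    ⟨ι, σ, h1, h2, Q, rfl⟩
  haveI : Nontrivial C := (X.presheaf.germ (X.basicOpen g) _ hxg).hom.domain_nontrivial
  let bC : Module.Basis (Fin Q.dimension) C (Ω[C⁄Γ(S, V)]) :=
    Module.finBasisOfFinrankEq C _ (Module.finrank_eq_of_rank_eq
      (Algebra.IsStandardSmoothOfRelativeDimension.rank_kaehlerDifferential
        (R := Γ(S, V)) (S := C) Q.dimension))
  let L := Localization.AtPrime P.asIdeal
  let ψ : C →ₐ[Γ(X, U)] L :=
    IsLocalization.liftAlgHom (M := Submonoid.powers g) (f := Algebra.ofId Γ(X, U) L) (by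
      rintro ⟨_, m, rfl⟩
      exact IsLocalization.map_units L (⟨g ^ m, P.asIdeal.primeCompl.pow_mem hg m⟩ : P.asIdeal.primeCompl))
  letI : Algebra C L := ψ.toRingHom.toAlgebra
  haveI : IsScalarTower Γ(X, U) C L := IsScalarTower.of_algebraMap_eq fun y => (ψ.commutes y).symm
  haveI : IsScalarTower Γ(S, V) C L := .to₁₃₄ _ Γ(X, U) _ _
  haveI : Algebra.FormallyEtale Γ(X, U) L := .of_isLocalization P.asIdeal.primeCompl
  haveI : Algebra.FormallyEtale Γ(X, U) C := .of_isLocalization (Submonoid.powers g)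
  haveI : Algebra.FormallyEtale C L := .of_restrictScalars (R := Γ(X, U))
  exact ⟨(bC.baseChange L).map (KaehlerDifferential.tensorKaehlerEquivOfFormallyEtale Γ(S, V) C L)⟩

end Groth.Agent.Lib.JacCrit.RankEtale
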