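import Groth.Agent.Lib.Kaehler.SmoothDim
import Mathlib.RingTheory.QuasiFinite.Basic
import Mathlib.RingTheory.Smooth.StandardSmoothOfFree
import Mathlib.RingTheory.Etale.StandardEtale
import Mathlib.RingTheory.LocalRing.ResidueField.Fiber

/-!
# Smooth and quasi-finite is étale
-/

universe u

open TensorProduct Groth.Agent.Lib.Dim.Local

namespace Groth.Agent.Lib.JacCrit.QFSmooth

/-- Quasi-finite points over a field have local dimension zero. -/
theorem dimAt_eq_zero (k : Type u) [Field k] {F : Type u} [CommRing F] [Algebra k F]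
    [Algebra.FiniteType k F] (q : Ideal F) [q.IsPrime] [Algebra.QuasiFiniteAt k q] :
    dimAt k q = 0 := by
  have hmin : q ∈ minimalPrimes F := by
    refine ⟨⟨inferInstance, bot_le⟩, fun J hJ hle => ?_⟩
    haveI : J.IsPrime := hJ.1
    have hbot : ∀ I : Ideal F, I.IsPrime → I.under k = ⊥ := fun I hI =>
      (Ideal.eq_bot_or_top _).resolve_right fun htop =>
        hI.ne_top ((Ideal.eq_top_iff_one I).mpr (by
          have h1 : (1 : k) ∈ I.under k := htop ▸ trivial
          rw [Ideal.under_def, Ideal.mem_comap, map_one] at h1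
          exact h1))
    rw [Algebra.QuasiFiniteAt.eq_of_le_of_under_eq (R := k) hle
      (by rw [hbot J inferInstance, hbot q inferInstance])]
  haveI : Module.Finite k (Localization.AtPrime q) := .of_quasiFinite
  haveI : Module.Finite k q.ResidueField :=
    Module.Finite.of_surjective (IsScalarTower.toAlgHom k (Localization.AtPrime q) q.ResidueField).toLinearMap
      IsLocalRing.residue_surjective
  haveI : Module.Finite k (F ⧸ q) := Module.Finite.of_injective
    (IsScalarTower.toAlgHom k (F ⧸ q) q.ResidueField).toLinearMap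
    (IsFractionRing.injective (F ⧸ q) q.ResidueField)
  haveI : q.IsMaximal := Ideal.Quotient.maximal_of_isField q
    (isField_of_isIntegral_of_isField' (R := k) (S := F ⧸ q) (Field.toIsField k))
  have h := height_maximal_eq_dimAt k q
  rw [Ideal.height_eq_zero_iff.mpr hmin] at h
  exact_mod_cast h.symm

/-- Smooth and quasi-finite at a prime is étale there. -/
theorem isEtaleAt (A B : Type u) [CommRing A] [CommRing B] [Algebra A B]
    [Algebra.FinitePresentation A B] (q : Ideal B) [q.IsPrime] [Algebra.QuasiFiniteAt A q]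
    (h : Algebra.IsSmoothAt A q) : Algebra.IsEtaleAt A q := by
  obtain ⟨g, hg, hs⟩ := Algebra.IsSmoothAt.exists_notMem_isStandardSmooth A q
  let C := Localization.Away g
  obtain ⟨ι, σ, h1, h2, ⟨Q⟩⟩ := hs.out
  haveI hn : Algebra.IsStandardSmoothOfRelativeDimension Q.dimension A C :=
    ⟨ι, σ, h1, h2, Q, rfl⟩
  obtain ⟨q', hq'⟩ : (⟨q, inferInstance⟩ : PrimeSpectrum B) ∈
      Set.range (PrimeSpectrum.comap (algebraMap B C)) := by
    rw [PrimeSpectrum.localization_away_comap_range C g]
    exact hg
  haveI : q'.asIdeal.LiesOver q := ⟨(congrArg PrimeSpectrum.asIdeal hq').symm⟩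
  haveI : Algebra.QuasiFiniteAt A q'.asIdeal :=
    .of_surjectiveOnStalks_of_liesOver q
      (RingHom.surjectiveOnStalks_of_isLocalization (Submonoid.powers g) C) q'.asIdeal
  let p := q'.asIdeal.under A
  let qF := PrimeSpectrum.preimageHomeomorphFiber A C ⟨p, inferInstance⟩ ⟨q', rfl⟩
  haveI : Algebra.QuasiFiniteAt p.ResidueField qF.asIdeal :=
    Algebra.QuasiFiniteAt.baseChange q'.asIdeal qF.asIdeal
      (congrArg PrimeSpectrum.asIdeal (congrArg Subtype.val
        ((PrimeSpectrum.preimageHomeomorphFiber A C ⟨p, inferInstance⟩).symm_apply_apply ⟨q', rfl⟩))).symm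
  haveI : Algebra.IsStandardSmoothOfRelativeDimension Q.dimension p.ResidueField (p.Fiber C) :=
    inferInstance
  have hzero : Q.dimension = 0 :=
    (Kaehler.SmoothDim.dimAt_eq (n := Q.dimension) p.ResidueField qF.asIdeal).symm.trans
      (dimAt_eq_zero p.ResidueField qF.asIdeal)
  haveI : Algebra.IsStandardSmoothOfRelativeDimension 0 A C := hzero ▸ hn
  haveI : Algebra.Etale A C := inferInstance
  exact (Algebra.basicOpen_subset_etaleLocus_iff (R := A) (f := g)).mpr inferInstance
    (show (⟨q, inferInstance⟩ : PrimeSpectrum B) ∈ PrimeSpectrum.basicOpen g from hg)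

end Groth.Agent.Lib.JacCrit.QFSmooth
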