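import Groth.Agent.Lib.JacCrit.SmoothLocal
import Mathlib.RingTheory.Nilpotent.GeometricallyReduced

/-!
# Finitely generated field extensions: formally smooth is geometrically reduced
-/

universe u

open TensorProduct IsLocalRing

namespace Groth.Agent.Lib.JacCrit.FieldGeom

variable (k : Type u) [Field k] (L : Type u) [Field L] [Algebra k L] [Algebra.EssFiniteType k L]

theorem isGeometricallyReduced [Algebra.FormallySmooth k L] : Algebra.IsGeometricallyReduced k L := by
  rw [Algebra.isGeometricallyReduced_field_iff]
  let K := AlgebraicClosure k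
  refine isReduced_ofLocalizationMaximal _ fun P hP => ?_
  haveI : P.IsPrime := hP.isPrime
  haveI : Algebra.FormallyEtale (K ⊗[k] L) (Localization.AtPrime P) := .of_isLocalization P.primeCompl
  haveI : Algebra.FormallySmooth K (Localization.AtPrime P) := .comp K (K ⊗[k] L) _
  haveI : Algebra.EssFiniteType (K ⊗[k] L) (Localization.AtPrime P) := .of_isLocalization _ P.primeCompl
  haveI : Algebra.EssFiniteType K (Localization.AtPrime P) := .comp K (K ⊗[k] L) _
  haveI := SmoothLocal.isRegularLocalRing_of_formallySmooth K (Localization.AtPrime P)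
  haveI := Regular.Quotient.isDomain (Localization.AtPrime P)
  exact (inferInstance : IsReduced (Localization.AtPrime P))

theorem formallySmooth [Algebra.IsGeometricallyReduced k L] : Algebra.FormallySmooth k L := by
  rw [SmoothLocal.formallySmooth_iff_isGeometricallyRegular]
  intro k' _ _ hk'
  haveI := hk'
  haveI : Algebra.IsAlgebraic k k' := Algebra.IsAlgebraic.of_finite k k'
  haveI : IsReduced (k' ⊗[k] L) := inferInstance
  letI : Algebra L (k' ⊗[k] L) := Algebra.TensorProduct.rightAlgebra
  haveI : Module.Finite L (k' ⊗[k] L) := Module.Finite.equiv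
    ((AlgEquiv.ofRingEquiv (f := (Algebra.TensorProduct.comm k L k').toRingEquiv)
      (fun x => by simp [RingHom.algebraMap_toAlgebra])).toLinearEquiv :
        L ⊗[k] k' ≃ₗ[L] k' ⊗[k] L)
  haveI : IsArtinianRing (k' ⊗[k] L) := IsArtinianRing.of_finite L _
  refine { isRegularLocalRing_localization := fun P _ => ?_ }
  haveI : IsArtinianRing (Localization.AtPrime P) := inferInstance
  letI := (IsArtinianRing.isField_of_isReduced_of_isLocalRing (Localization.AtPrime P)).toField
  infer_instance

end Groth.Agent.Lib.JacCrit.FieldGeom
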