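import Groth.Agent.Lib.JacCrit.Regular
import Groth.Agent.Lib.Dim.Local
import Groth.Agent.Lib.Dim.FieldExt
import Mathlib.RingTheory.Etale.Descent
import Mathlib.RingTheory.Kaehler.TensorProduct
import Mathlib.RingTheory.Jacobson.Ring
import Mathlib.FieldTheory.IsAlgClosed.AlgebraicClosure
import Mathlib.RingTheory.Localization.BaseChange

/-!
# Free differentials of rank the local dimension force smoothness
-/

universe u

open IsLocalRing TensorProduct Groth.Agent.Lib.Dim.Local

namespace Groth.Agent.Lib.JacCrit.Point

/-- At a rational point the cotangent space embeds into the differentials. -/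
theorem spanFinrank_le (k : Type u) [Field k] {R : Type u} [CommRing R] [IsLocalRing R]
    [IsNoetherianRing R] [Algebra k R] (hk : Function.Surjective (algebraMap k (ResidueField R)))
    {n : ℕ} (b : Module.Basis (Fin n) R (Ω[R⁄k])) :
    (maximalIdeal R).spanFinrank ≤ n := by
  set m := maximalIdeal R
  let e : k ≃+* ResidueField R := RingEquiv.ofBijective (algebraMap k (ResidueField R))
    ⟨(algebraMap k (ResidueField R)).injective, hk⟩
  let c : R →+* k := e.symm.toRingHom.comp (residue R)
  have hc : ∀ x, x - algebraMap k R (c x) ∈ m := fun x => by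
    rw [← IsLocalRing.residue_eq_zero_iff, map_sub, sub_eq_zero]
    exact (e.apply_symm_apply (residue R x)).symm
  have hck : ∀ a : k, c (algebraMap k R a) = a := fun a => e.symm_apply_apply a
  let D : Derivation k R m.Cotangent := Derivation.mk'
    { toFun := fun x => m.toCotangent ⟨x - algebraMap k R (c x), hc x⟩
      map_add' := fun x y => by
        rw [← map_add]
        exact congrArg _ (Subtype.ext (by simp only [map_add, Submodule.coe_add]; ring))
      map_smul' := fun a x => by
        rw [RingHom.id_apply, ← IsScalarTower.algebraMap_smul R a (m.toCotangent _), ← map_smul]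
        exact congrArg _ (Subtype.ext (by
          simp only [Algebra.smul_def, map_mul, hck, SetLike.val_smul,
            Algebra.algebraMap_self, RingHom.id_apply]
          ring)) } fun x y => by
      change m.toCotangent _ = x • m.toCotangent _ + y • m.toCotangent _
      rw [← map_smul, ← map_smul, ← map_add, Ideal.toCotangent_eq]
      have h := Ideal.mul_mem_mul (hc x) (hc y)
      rw [← pow_two, ← neg_mem_iff] at h
      convert h using 1
      simp only [map_mul, Submodule.coe_add, SetLike.val_smul, smul_eq_mul]
      ring
  have hsurj : Function.Surjective D.liftKaehlerDifferential := fun v => by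
    obtain ⟨⟨x, hx⟩, rfl⟩ := m.toCotangent_surjective v
    refine ⟨KaehlerDifferential.D k R x, (Derivation.liftKaehlerDifferential_comp_D D x).trans ?_⟩
    refine congrArg _ (Subtype.ext ?_)
    have : c x = 0 := by
      change e.symm (residue R x) = 0
      rw [(IsLocalRing.residue_eq_zero_iff x).mpr hx, map_zero]
    simp [this]
  rw [spanFinrank_maximalIdeal_eq_finrank_cotangentSpace]
  have hspan : Submodule.span (ResidueField R)
      (Set.range fun i => (D.liftKaehlerDifferential (b i) : CotangentSpace R)) = ⊤ := by
    rw [← Submodule.restrictScalars_eq_top_iff R, eq_top_iff]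
    refine le_trans ?_ (Submodule.span_le_restrictScalars R (ResidueField R) _)
    rw [show (Set.range fun i => (D.liftKaehlerDifferential (b i) : CotangentSpace R)) =
      D.liftKaehlerDifferential '' Set.range b from Set.range_comp D.liftKaehlerDifferential b]
    exact le_of_eq (by
      rw [← Submodule.map_span, b.span_eq, Submodule.map_top, LinearMap.range_eq_top.mpr hsurj])
  rw [← finrank_top, ← hspan]
  exact (finrank_range_le_card (fun i => (D.liftKaehlerDifferential (b i) : CotangentSpace R))).trans
    (Fintype.card_fin n).le

variable (K : Type u) [Field K] {B : Type u} [CommRing B] [Algebra K B] [Algebra.FiniteType K B]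

/-- At a closed point over an algebraically closed field. -/
theorem isSmoothAt_closed [IsAlgClosed K] {n : ℕ} (b : Module.Basis (Fin n) B (Ω[B⁄K]))
    (m : Ideal B) [m.IsMaximal] (hdim : n ≤ dimAt K m) : Algebra.IsSmoothAt K m := by
  let R := Localization.AtPrime m
  haveI : IsNoetherianRing B := Algebra.FiniteType.isNoetherianRing K B
  haveI : IsNoetherianRing R := IsLocalization.isNoetherianRing m.primeCompl R inferInstance
  haveI : Module.Finite K (B ⧸ m) := by
    letI := Ideal.Quotient.field m
    exact finite_of_finite_type_of_isJacobsonRing K (B ⧸ m)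
  have hk : Function.Surjective (algebraMap K m.ResidueField) := by
    have h1 := (Ideal.bijective_algebraMap_quotient_residueField m).2
    have h2 : Function.Surjective (algebraMap K (B ⧸ m)) :=
      (IsAlgClosed.algebraMap_bijective_of_isIntegral (k := K) (K := B ⧸ m)).2
    rw [IsScalarTower.algebraMap_eq K (B ⧸ m) m.ResidueField]
    exact h1.comp h2
  haveI : Algebra.FormallySmooth K m.ResidueField :=
    Algebra.FormallySmooth.of_equiv (AlgEquiv.ofBijective (Algebra.ofId K m.ResidueField)
      ⟨(algebraMap K m.ResidueField).injective, hk⟩)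
  haveI : Algebra.FormallyEtale B R := .of_isLocalization m.primeCompl
  have hle := spanFinrank_le K (R := R) hk ((b.baseChange R).map
    (KaehlerDifferential.tensorKaehlerEquivOfFormallyEtale K B R))
  haveI : IsRegularLocalRing R := IsRegularLocalRing.of_spanFinrank_maximalIdeal_le R (by
    rw [IsLocalization.AtPrime.ringKrullDim_eq_height m R, height_maximal_eq_dimAt K m]
    exact_mod_cast hle.trans hdim)
  exact Regular.isSmoothAt K m

variable {A : Type u} [CommRing A]

/-- Free differentials of rank the local dimension: smooth. -/
theorem isSmoothAt_of_basis (k : Type u) [Field k] [Algebra k A] [Algebra.FiniteType k A]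
    {n : ℕ} (b : Module.Basis (Fin n) A (Ω[A⁄k])) (p : Ideal A) [p.IsPrime]
    (hdim : n ≤ dimAt k p) : Algebra.IsSmoothAt k p := by
  let K := AlgebraicClosure k
  let B := K ⊗[k] A
  letI : Algebra A B := Algebra.TensorProduct.rightAlgebra
  haveI : Algebra.IsPushout k K A B := inferInstance
  haveI : Algebra.FinitePresentation k A := Algebra.FinitePresentation.of_finiteType.mp ‹_›
  let bB : Module.Basis (Fin n) B (Ω[B⁄K]) :=
    (b.baseChange B).map (KaehlerDifferential.tensorKaehlerEquiv k K A B)
  -- every prime over `p` is a smooth point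
  have hover : ∀ P : PrimeSpectrum B, PrimeSpectrum.comap (algebraMap A B) P = ⟨p, inferInstance⟩ →
      P ∈ Algebra.smoothLocus K B := by
    intro P hP
    obtain ⟨m, hm, hPm⟩ := Ideal.exists_le_maximal P.asIdeal P.isPrime.ne_top
    have h1 : dimAt K P.asIdeal = dimAt k p := by
      rw [Dim.FieldExt.dimAt_baseChange]
      congr 1
      exact congrArg PrimeSpectrum.asIdeal hP
    have h2 : Algebra.IsSmoothAt K m :=
      isSmoothAt_closed K bB m (hdim.trans (h1.symm.le.trans (dimAt_mono K hPm)))
    exact (Algebra.isOpen_smoothLocus (R := K) (A := B)).stableUnderGeneralization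
      ((PrimeSpectrum.le_iff_specializes P ⟨m, hm.isPrime⟩).mp hPm) h2
  haveI : Algebra.IsIntegral A B := Algebra.IsPushout.isIntegral' k A K B
  obtain ⟨_, ⟨g, rfl⟩, hpg, hg⟩ :=
    PrimeSpectrum.isTopologicalBasis_basic_opens.exists_subset_of_mem_open
      (show (⟨p, inferInstance⟩ : PrimeSpectrum A) ∈
          (PrimeSpectrum.comap (algebraMap A B) '' (Algebra.smoothLocus K B)ᶜ)ᶜ from
        fun ⟨P, hP, hPp⟩ => hP (hover P hPp))
      ((PrimeSpectrum.isClosedMap_comap_of_isIntegral (algebraMap A B)
        (fun x => Algebra.IsIntegral.isIntegral x) _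
          (Algebra.isOpen_smoothLocus (R := K) (A := B)).isClosed_compl).isOpen_compl)
  let A' := Localization.Away g
  let B' := K ⊗[k] A'
  let ψ : B →ₐ[K] B' := Algebra.TensorProduct.map (AlgHom.id K K) (IsScalarTower.toAlgHom k A A')
  letI : Algebra B B' := ψ.toRingHom.toAlgebra
  haveI : IsScalarTower K B B' := IsScalarTower.of_algebraMap_eq fun x => (ψ.commutes x).symm
  haveI : IsLocalization.Away (algebraMap A B g) B' := by
    have := IsLocalization.tensorProduct_tensorProduct_right k K (Submonoid.powers g) A' (by
      ext x; simp [RingHom.algebraMap_toAlgebra, ψ]; rfl)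
    rwa [Submonoid.map_powers] at this
  haveI : Algebra.Smooth K B' := by
    haveI : Algebra.FinitePresentation K B' := inferInstance
    refine ⟨Algebra.smoothLocus_eq_univ_iff.mp ?_, inferInstance⟩
    rw [← Algebra.smoothLocus_comap_of_isLocalization (algebraMap A B g), Set.eq_univ_iff_forall]
    intro P
    by_contra hP
    refine hg (show PrimeSpectrum.comap (algebraMap A B) (PrimeSpectrum.comap (algebraMap B B') P) ∈
      (PrimeSpectrum.basicOpen g : Set (PrimeSpectrum A)) from fun hgP => ?_) ⟨_, hP, rfl⟩
    exact P.isPrime.ne_top (Ideal.eq_top_of_isUnit_mem _ hgP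
      (IsLocalization.Away.algebraMap_isUnit (S := B') (algebraMap A B g)))
  haveI : Algebra.Smooth k A' := .of_smooth_tensorProduct_of_faithfullyFlat K
  exact (Algebra.basicOpen_subset_smoothLocus_iff_smooth.mpr this) hpg

end Groth.Agent.Lib.JacCrit.Point
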