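import Groth.Agent.Lib.JacCrit.EtaleBasis
import Groth.Agent.Lib.JacCrit.Regular
import Groth.Agent.Lib.JacCrit.Minimal
import Groth.Agent.Lib.JacCrit.RegularOfSmooth
import Mathlib.RingTheory.Unramified.Field
import Mathlib.LinearAlgebra.Dimension.OrzechProperty
import Mathlib.RingTheory.Etale.Field
import Mathlib.RingTheory.Unramified.LocalStructure

/-!
# Differentials of residue fields and adapted systems of parameters
-/

universe u

open TensorProduct IsLocalRing Groth.Agent.Lib.Dim

namespace Groth.Agent.Lib.JacCrit.ResidueDiff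

/-- A finitely generated field extension whose differentials are generated by as many elements as
its transcendence degree is formally smooth. -/
theorem of_span (k : Type u) [Field k] {L : Type u} [Field L] [Algebra k L]
    [Algebra.EssFiniteType k L] {d : ℕ} (x : Fin d → L)
    (hx : Submodule.span L (Set.range fun i => KaehlerDifferential.D k L (x i)) = ⊤)
    (hd : Algebra.trdeg k L = (d : Cardinal)) :
    Algebra.FormallySmooth k L ∧ LinearIndependent L fun i => KaehlerDifferential.D k L (x i) := by
  let P := MvPolynomial (Fin d) k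
  let φ : P →ₐ[k] L := MvPolynomial.aeval x
  letI : Algebra P L := φ.toRingHom.toAlgebra
  haveI : IsScalarTower k P L := IsScalarTower.of_algebraMap_eq fun y => (φ.commutes y).symm
  haveI : Algebra.EssFiniteType P L := .of_comp k P L
  have hX : ∀ i, algebraMap (MvPolynomial (Fin d) k) L (MvPolynomial.X i) = x i := fun i => MvPolynomial.aeval_X x i
  haveI : Algebra.FormallyUnramified P L := by
    refine ⟨subsingleton_of_forall_eq 0 fun z => ?_⟩
    obtain ⟨y, rfl⟩ := KaehlerDifferential.map_surjective k P L z
    refine (KaehlerDifferential.exact_mapBaseChange_map k P L y).mpr ?_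
    have hy : y ∈ Submodule.span L (Set.range fun i => KaehlerDifferential.D k L (x i)) := hx ▸ trivial
    induction hy using Submodule.span_induction with
    | mem y hy =>
      obtain ⟨i, rfl⟩ := hy
      exact ⟨1 ⊗ₜ KaehlerDifferential.D k P (MvPolynomial.X i), by
        rw [KaehlerDifferential.mapBaseChange_tmul, one_smul, KaehlerDifferential.map_D, hX]⟩
    | zero => exact ⟨0, map_zero _⟩
    | add a b _ _ ha hb =>
      obtain ⟨a', rfl⟩ := ha; obtain ⟨b', rfl⟩ := hb; exact ⟨a' + b', map_add _ _ _⟩
    | smul c a _ ha => obtain ⟨a', rfl⟩ := ha; exact ⟨c • a', map_smul _ _ _⟩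
  haveI : Algebra.QuasiFinite P L := inferInstance
  let q : Ideal P := RingHom.ker (algebraMap P L)
  haveI : q.IsPrime := RingHom.ker_isPrime _
  have hq : q = ⊥ := by
    let R := P ⧸ q
    let ψ : R →ₐ[k] L := Ideal.Quotient.liftₐ q φ fun a ha => ha
    letI : Algebra R L := ψ.toRingHom.toAlgebra
    haveI : IsScalarTower P R L := ⟨fun a b c => by
      obtain ⟨b, rfl⟩ := Ideal.Quotient.mk_surjective b
      change φ (a * b) * c = _
      rw [map_mul, mul_assoc, Algebra.smul_def, Algebra.smul_def]
      rfl⟩
    haveI : IsScalarTower k R L := IsScalarTower.of_algebraMap_eq fun y => (ψ.commutes y).symm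
    haveI : FaithfulSMul R L := (faithfulSMul_iff_algebraMap_injective _ _).mpr
      (RingHom.kerLift_injective (algebraMap P L))
    letI : Algebra (FractionRing R) L := FractionRing.liftAlgebra R L
    haveI : IsScalarTower R (FractionRing R) L := FractionRing.isScalarTower_liftAlgebra R L
    haveI : Algebra.QuasiFinite R L := Algebra.QuasiFinite.of_restrictScalars P _ _
    haveI : Algebra.QuasiFinite (FractionRing R) L := Algebra.QuasiFinite.of_restrictScalars R _ _
    haveI : Module.Finite (FractionRing R) L := .of_quasiFinite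
    haveI : Algebra.IsAlgebraic R (FractionRing R) := IsLocalization.isAlgebraic _ (nonZeroDivisors R)
    haveI : Algebra.IsAlgebraic R L := Algebra.IsAlgebraic.trans R (FractionRing R) L
    have h := trdeg_add_eq k R (A := L)
    rw [trdeg_eq_zero (R := R), add_zero, hd, Basic.trdeg_quotient] at h
    have h1 : Basic.dimQ k q = d := by exact_mod_cast h
    have h2 := Basic.height_add_dimQ k q
    rw [h1] at h2
    have h3 : Basic.trdegNat k P = d := by
      rw [Basic.trdegNat, MvPolynomial.trdeg_of_isDomain]
      simp
    rw [h3] at h2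
    have h4 : q.height = 0 := by
      have hne : q.height ≠ ⊤ := Local.height_ne_top k q
      obtain ⟨m, hm⟩ := ENat.ne_top_iff_exists.mp hne
      rw [← hm] at h2 ⊢
      norm_cast at h2 ⊢
      omega
    have hmin := Ideal.height_eq_zero_iff.mp h4
    exact le_bot_iff.mp (hmin.2 ⟨Ideal.isPrime_bot, le_rfl⟩ bot_le)
  haveI : FaithfulSMul P L := (faithfulSMul_iff_algebraMap_injective _ _).mpr
    ((RingHom.injective_iff_ker_eq_bot _).mpr hq)
  letI : Algebra (FractionRing P) L := FractionRing.liftAlgebra P L
  haveI : IsScalarTower P (FractionRing P) L := FractionRing.isScalarTower_liftAlgebra P L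
  haveI : Algebra.FormallyUnramified (FractionRing P) L := .of_restrictScalars P _ _
  haveI : Algebra.EssFiniteType (FractionRing P) L := .of_comp P _ L
  haveI : Algebra.IsSeparable (FractionRing P) L := Algebra.FormallyUnramified.isSeparable _ _
  haveI : Algebra.FormallyEtale (FractionRing P) L := Algebra.FormallyEtale.of_isSeparable _ _
  haveI : Algebra.FormallyEtale P (FractionRing P) := .of_isLocalization (nonZeroDivisors P)
  haveI : Algebra.FormallyEtale P L := .comp P (FractionRing P) L
  haveI hfs : Algebra.FormallySmooth k L := .comp k P L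
  refine ⟨hfs, ?_⟩
  have h := (EtaleBasis.bijective_iff (A := k) (T := L) (r := d)).mp
    ((EtaleBasis.formallyEtale_iff_bijective k P L).mp inferInstance)
  simpa only [hX] using h.1

variable (k : Type u) [Field k] {A : Type u} [CommRing A] [Algebra k A] [Algebra.FiniteType k A]
  (p : Ideal A) [p.IsPrime]

/-- The differentials of a smooth local ring. -/
theorem exists_basis [Algebra.IsSmoothAt k p] :
    Nonempty (Module.Basis (Fin (Local.dimAt k p)) (Localization.AtPrime p)
      (Ω[Localization.AtPrime p⁄k])) := by
  haveI : Algebra.FinitePresentation k A := Algebra.FinitePresentation.of_finiteType.mp ‹_›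
  obtain ⟨g, hg, hs⟩ := Algebra.IsSmoothAt.exists_notMem_isStandardSmooth k p
  let C := Localization.Away g
  obtain ⟨ι, σ, h1, h2, ⟨Q⟩⟩ := hs.out
  haveI hn : Algebra.IsStandardSmoothOfRelativeDimension Q.dimension k C :=
    ⟨ι, σ, h1, h2, Q, rfl⟩
  obtain ⟨P', hP'⟩ : (⟨p, inferInstance⟩ : PrimeSpectrum A) ∈
      Set.range (PrimeSpectrum.comap (algebraMap A C)) := by
    rw [PrimeSpectrum.localization_away_comap_range C g]
    exact hg
  haveI : Nontrivial C := P'.nontrivial
  have hdim : Local.dimAt k p = Q.dimension := by
    have h := Minimal.dimAt_away k g C P'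
    rw [hP', Kaehler.SmoothDim.dimAt_eq (n := Q.dimension) k P'.asIdeal] at h
    exact h
  have hr := Algebra.IsStandardSmoothOfRelativeDimension.rank_kaehlerDifferential
    (R := k) (S := C) Q.dimension
  haveI : Module.Free C (Ω[C⁄k]) := inferInstance
  let bC : Module.Basis (Fin Q.dimension) C (Ω[C⁄k]) :=
    Module.finBasisOfFinrankEq C _ (Module.finrank_eq_of_rank_eq hr)
  let L := Localization.AtPrime p
  let f : C →ₐ[A] L := IsLocalization.liftAlgHom (M := Submonoid.powers g) (f := Algebra.ofId A L) (by
    rintro ⟨_, m, rfl⟩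
    change IsUnit (algebraMap A L (g ^ m))
    exact IsLocalization.map_units L (⟨g ^ m, p.primeCompl.pow_mem hg m⟩ : p.primeCompl))
  letI : Algebra C L := f.toRingHom.toAlgebra
  haveI : IsScalarTower A C L := IsScalarTower.of_algebraMap_eq fun y => (f.commutes y).symm
  haveI : IsScalarTower k C L := .to₁₃₄ _ A _ _
  haveI : Algebra.FormallyEtale A L := .of_isLocalization p.primeCompl
  haveI : Algebra.FormallyEtale A C := .of_isLocalization (Submonoid.powers g)
  haveI : Algebra.FormallyEtale C L := .of_restrictScalars (R := A)
  rw [hdim]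
  exact ⟨(bC.baseChange L).map (KaehlerDifferential.tensorKaehlerEquivOfFormallyEtale k C L)⟩

theorem trdeg_residueField : Algebra.trdeg k p.ResidueField = (Basic.dimQ k p : Cardinal) :=
  Basic.trdeg_residueField k p

theorem essFiniteType_residueField : Algebra.EssFiniteType k p.ResidueField :=
  haveI : Algebra.EssFiniteType A (Localization.AtPrime p) := .of_isLocalization _ p.primeCompl
  haveI : Algebra.EssFiniteType k (Localization.AtPrime p) := .comp k A _
  haveI : Algebra.EssFiniteType (Localization.AtPrime p) p.ResidueField := .of_surjective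
    (IsScalarTower.toAlgHom (Localization.AtPrime p) (Localization.AtPrime p) p.ResidueField)
    IsLocalRing.residue_surjective
  .comp k (Localization.AtPrime p) _

omit [Algebra.FiniteType k A] in
/-- The cotangent sequence: kernel. -/
theorem mem_ker_iff (w : p.ResidueField ⊗[Localization.AtPrime p] Ω[Localization.AtPrime p⁄k]) :
    KaehlerDifferential.mapBaseChange k (Localization.AtPrime p) p.ResidueField w = 0 ↔
      ∃ z ∈ maximalIdeal (Localization.AtPrime p),
        w = (1 : p.ResidueField) ⊗ₜ KaehlerDifferential.D k (Localization.AtPrime p) z := by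
  constructor
  · intro h
    obtain ⟨c, rfl⟩ := (KaehlerDifferential.exact_kerCotangentToTensor_mapBaseChange k
      (Localization.AtPrime p) p.ResidueField IsLocalRing.residue_surjective w).mp h
    obtain ⟨⟨z, hz⟩, rfl⟩ := Ideal.toCotangent_surjective _ c
    exact ⟨z, (IsLocalRing.residue_eq_zero_iff z).mp hz, rfl⟩
  · rintro ⟨z, hz, rfl⟩
    rw [KaehlerDifferential.mapBaseChange_tmul, one_smul, KaehlerDifferential.map_D,
      show algebraMap (Localization.AtPrime p) p.ResidueField z = 0 from
        (IsLocalRing.residue_eq_zero_iff z).mpr hz, map_zero]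

omit [Algebra.FiniteType k A] in
/-- If the residue field is formally smooth the cotangent space injects. -/
theorem mem_sq_of_tmul_eq_zero [Algebra.FormallySmooth k p.ResidueField]
    [Algebra.FormallySmooth k (Localization.AtPrime p)] {z : Localization.AtPrime p}
    (hz : z ∈ maximalIdeal (Localization.AtPrime p))
    (h : (1 : p.ResidueField) ⊗ₜ[Localization.AtPrime p]
      KaehlerDifferential.D k (Localization.AtPrime p) z = 0) :
    z ∈ maximalIdeal (Localization.AtPrime p) ^ 2 := by
  obtain ⟨l, hl⟩ := (Algebra.FormallySmooth.iff_split_injection (R := k)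
    (P := Localization.AtPrime p) (A := p.ResidueField) IsLocalRing.residue_surjective).mp
    inferInstance
  have hker : RingHom.ker (algebraMap (Localization.AtPrime p) p.ResidueField) =
      maximalIdeal (Localization.AtPrime p) := IsLocalRing.ker_residue
  have key : ∀ (J : Ideal (Localization.AtPrime p))
      (_ : J = RingHom.ker (algebraMap (Localization.AtPrime p) p.ResidueField)) (_ : z ∈ J),
      z ∈ J ^ 2 := by
    rintro J rfl hzJ
    rw [← Ideal.toCotangent_eq_zero _ ⟨z, hzJ⟩]
    have h1 := congr($hl ((RingHom.ker (algebraMap (Localization.AtPrime p) p.ResidueField)).toCotangent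
      ⟨z, hzJ⟩))
    simp only [LinearMap.comp_apply, KaehlerDifferential.kerCotangentToTensor_toCotangent,
      LinearMap.id_coe, id_eq] at h1
    exact h1.symm.trans ((congrArg l h).trans (map_zero l))
  exact key _ hker.symm hz

omit [Algebra.FiniteType k A] in
theorem tmul_D_mul (a z : Localization.AtPrime p) (hz : z ∈ maximalIdeal (Localization.AtPrime p)) :
    (1 : p.ResidueField) ⊗ₜ[Localization.AtPrime p] KaehlerDifferential.D k (Localization.AtPrime p) (a * z) =
      algebraMap (Localization.AtPrime p) p.ResidueField a •
        ((1 : p.ResidueField) ⊗ₜ KaehlerDifferential.D k (Localization.AtPrime p) z) := by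
  rw [Derivation.leibniz, TensorProduct.tmul_add, TensorProduct.tmul_smul, TensorProduct.tmul_smul,
    ← IsScalarTower.algebraMap_smul p.ResidueField a,
    ← IsScalarTower.algebraMap_smul p.ResidueField z,
    show algebraMap (Localization.AtPrime p) p.ResidueField z = 0 from
      (IsLocalRing.residue_eq_zero_iff z).mpr hz, zero_smul, add_zero]

theorem finite_kaehler : Module.Finite (Localization.AtPrime p) (Ω[Localization.AtPrime p⁄k]) :=
  haveI : Algebra.EssFiniteType A (Localization.AtPrime p) := .of_isLocalization _ p.primeCompl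
  haveI : Algebra.EssFiniteType k (Localization.AtPrime p) := .comp k A _
  inferInstance

include k in
theorem isNoetherianRing_localization : IsNoetherianRing (Localization.AtPrime p) :=
  haveI : IsNoetherianRing A := Algebra.FiniteType.isNoetherianRing k A
  IsLocalization.isNoetherianRing p.primeCompl _ inferInstance

/-- `g` is adapted: the first `r` generate the maximal ideal, the residues of the others have
differentials generating those of the residue field. -/
def Adapted {n : ℕ} (r : ℕ)
    (g : Fin n → Localization.AtPrime p) : Prop :=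
  Ideal.span (g '' {i : Fin n | (i : ℕ) < r}) = maximalIdeal (Localization.AtPrime p) ∧
    Submodule.span p.ResidueField ((fun i : Fin n =>
      KaehlerDifferential.D k p.ResidueField (residue (Localization.AtPrime p) (g i))) ''
        {i : Fin n | r ≤ (i : ℕ)}) = ⊤

omit [Algebra.FiniteType k A] in
theorem mapBaseChange_tmul_D (a : Localization.AtPrime p) :
    KaehlerDifferential.mapBaseChange k (Localization.AtPrime p) p.ResidueField
      ((1 : p.ResidueField) ⊗ₜ KaehlerDifferential.D k (Localization.AtPrime p) a) =
        KaehlerDifferential.D k p.ResidueField (residue (Localization.AtPrime p) a) := by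
  rw [KaehlerDifferential.mapBaseChange_tmul, one_smul, KaehlerDifferential.map_D]
  rfl

variable {n r : ℕ} (hn : Local.dimAt k p = n)
  (hr : ringKrullDim (Localization.AtPrime p) = (r : WithBot ℕ∞))

include hr in
theorem dimAt_eq : Local.dimAt k p = r + Basic.dimQ k p := by
  have h := Local.ringKrullDim_localization k p
  rw [hr] at h
  exact_mod_cast h.symm

include hn hr in
/-- Adapted systems: regular with formally smooth residue field, and the differentials form a
basis. -/
theorem of_adapted (g : Fin n → Localization.AtPrime p) (h : Adapted k p r g) :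
    IsRegularLocalRing (Localization.AtPrime p) ∧ Algebra.FormallySmooth k p.ResidueField ∧
      LinearIndependent (Localization.AtPrime p)
          (fun i => KaehlerDifferential.D k (Localization.AtPrime p) (g i)) ∧
        Submodule.span (Localization.AtPrime p)
          (Set.range fun i => KaehlerDifferential.D k (Localization.AtPrime p) (g i)) = ⊤ := by
  classical
  obtain ⟨hgm, hgs⟩ := h
  let R := Localization.AtPrime p
  let κ := p.ResidueField
  haveI := isNoetherianRing_localization k p
  haveI := essFiniteType_residueField k p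
  haveI := finite_kaehler k p
  have hnr : r + Basic.dimQ k p = n := (dimAt_eq k p hr).symm.trans hn
  have hreg : IsRegularLocalRing R := by
    refine IsRegularLocalRing.of_spanFinrank_maximalIdeal_le R ?_
    rw [hr, ← hgm]
    norm_cast
    refine (Submodule.spanFinrank_span_le_ncard_of_finite ((Set.toFinite _).image g)).trans ?_
    refine (Set.ncard_image_le (Set.toFinite _)).trans ?_
    refine (Set.ncard_le_ncard_of_injOn (fun i : Fin n => (i : ℕ)) (t := ↑(Finset.range r))
      (fun i hi => Finset.mem_range.mpr hi) (Fin.val_injective.injOn) (Finset.finite_toSet _)).trans ?_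
    rw [Set.ncard_coe_finset, Finset.card_range]
  let x : Fin (Basic.dimQ k p) → κ := fun j => residue R (g ⟨r + j, by omega⟩)
  have hxs : Submodule.span κ (Set.range fun j => KaehlerDifferential.D k κ (x j)) = ⊤ := by
    rw [← hgs]
    congr 1
    ext v
    constructor
    · rintro ⟨j, rfl⟩; exact ⟨⟨r + j, by omega⟩, Nat.le_add_right r j, rfl⟩
    · rintro ⟨i, hi, rfl⟩
      refine ⟨⟨i.1 - r, by have := i.2; simp only [Set.mem_ofPred_eq] at hi; omega⟩, ?_⟩
      simp only [x]
      congr 3
      exact Fin.ext (by simp only [Set.mem_ofPred_eq] at hi; simp only; omega)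
  obtain ⟨hfs, -⟩ := of_span k x hxs (trdeg_residueField k p)
  haveI := hfs
  haveI := hreg
  haveI hsm : Algebra.IsSmoothAt k p := Regular.isSmoothAt k p
  haveI : Algebra.FormallySmooth k R := hsm
  obtain ⟨b⟩ := exists_basis k p
  rw [hn] at b
  let w : Fin n → κ ⊗[R] Ω[R⁄k] := fun i => (1 : κ) ⊗ₜ KaehlerDifferential.D k R (g i)
  have hw : Submodule.span κ (Set.range w) = ⊤ := by
    rw [eq_top_iff]
    rintro v -
    have hsurj : KaehlerDifferential.mapBaseChange k R κ v ∈ Submodule.map
        (KaehlerDifferential.mapBaseChange k R κ) (Submodule.span κ (Set.range w)) := by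
      have htop : (⊤ : Submodule κ (Ω[κ⁄k])) ≤ Submodule.map
          (KaehlerDifferential.mapBaseChange k R κ) (Submodule.span κ (Set.range w)) := by
        rw [← hgs, Submodule.span_le]
        rintro _ ⟨i, -, rfl⟩
        exact ⟨w i, Submodule.subset_span ⟨i, rfl⟩, mapBaseChange_tmul_D k p (g i)⟩
      exact htop trivial
    obtain ⟨v', hv', hvv'⟩ := hsurj
    obtain ⟨z, hz, hzv⟩ := (mem_ker_iff k p (v - v')).mp (by rw [map_sub, hvv', sub_self])
    have hmem : ∀ z ∈ maximalIdeal R, (1 : κ) ⊗ₜ[R] KaehlerDifferential.D k R z ∈
        Submodule.span κ (Set.range w) := by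
      intro z hz
      rw [← hgm] at hz
      induction hz using Submodule.span_induction with
      | mem z hz => obtain ⟨i, -, rfl⟩ := hz; exact Submodule.subset_span ⟨i, rfl⟩
      | zero => rw [map_zero, TensorProduct.tmul_zero]; exact zero_mem _
      | add a b _ _ ha hb => rw [map_add, TensorProduct.tmul_add]; exact add_mem ha hb
      | smul a z hzm hz' =>
        rw [smul_eq_mul, tmul_D_mul k p a z (hgm ▸ hzm)]
        exact Submodule.smul_mem _ _ hz'
    have := add_mem hv' (hzv ▸ hmem z hz)
    rwa [add_sub_cancel] at this
  have hspan : Submodule.span R (Set.range fun i => KaehlerDifferential.D k R (g i)) = ⊤ := by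
    rw [← IsLocalRing.map_tensorProduct_mk_eq_top, Submodule.map_span, ← Set.range_comp]
    rw [← Submodule.restrictScalars_eq_top_iff R, Submodule.restrictScalars_span R κ
      IsLocalRing.residue_surjective] at hw
    exact hw
  refine ⟨inferInstance, inferInstance, ?_, hspan⟩
  haveI : Module.Free R (Ω[R⁄k]) := .of_basis b
  refine linearIndependent_of_top_le_span_of_card_eq_finrank hspan.ge ?_
  rw [Module.finrank_eq_card_basis b]

omit [Algebra.FiniteType k A] in
theorem tmul_D_sq {z : Localization.AtPrime p} (hz : z ∈ maximalIdeal (Localization.AtPrime p) ^ 2) :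
    (1 : p.ResidueField) ⊗ₜ[Localization.AtPrime p]
      KaehlerDifferential.D k (Localization.AtPrime p) z = 0 := by
  rw [pow_two] at hz
  induction hz using Submodule.mul_induction_on' with
  | mem_mul_mem a ha b hb =>
    rw [tmul_D_mul k p a b hb, show algebraMap (Localization.AtPrime p) p.ResidueField a = 0 from
      (IsLocalRing.residue_eq_zero_iff a).mpr ha, zero_smul]
  | add a _ b _ ha hb => rw [map_add, TensorProduct.tmul_add, ha, hb, add_zero]

omit [Algebra.FiniteType k A] in
theorem tmul_D_sum {ι : Type*} [Fintype ι] (a z : ι → Localization.AtPrime p)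
    (hz : ∀ i, z i ∈ maximalIdeal (Localization.AtPrime p)) :
    (1 : p.ResidueField) ⊗ₜ[Localization.AtPrime p]
        KaehlerDifferential.D k (Localization.AtPrime p) (∑ i, a i * z i) =
      ∑ i, algebraMap (Localization.AtPrime p) p.ResidueField (a i) •
        ((1 : p.ResidueField) ⊗ₜ KaehlerDifferential.D k (Localization.AtPrime p) (z i)) := by
  rw [map_sum, TensorProduct.tmul_sum]
  exact Finset.sum_congr rfl fun i _ => tmul_D_mul k p (a i) (z i) (hz i)

include hn hr in
/-- A smooth point has adapted systems as soon as the residue field is separable. -/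
theorem exists_adapted [IsRegularLocalRing (Localization.AtPrime p)]
    [Algebra.FormallySmooth k p.ResidueField] :
    ∃ g : Fin n → Localization.AtPrime p, Adapted k p r g := by
  classical
  let R := Localization.AtPrime p
  let κ := p.ResidueField
  haveI := isNoetherianRing_localization k p
  haveI := finite_kaehler k p
  haveI hsm : Algebra.IsSmoothAt k p := Regular.isSmoothAt k p
  haveI : Algebra.FormallySmooth k R := hsm
  obtain ⟨b⟩ := exists_basis k p
  rw [hn] at b
  have hrk : (maximalIdeal R).spanFinrank = r := by
    have h := IsRegularLocalRing.spanFinrank_maximalIdeal (R := R)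
    rw [hr] at h
    exact_mod_cast h
  obtain ⟨s, hs_card, hs⟩ :=
    Submodule.FG.exists_span_finset_card_eq_spanFinrank (IsNoetherian.noetherian (maximalIdeal R))
  let e : Fin r ≃ s := (Fintype.equivFinOfCardEq ((Fintype.card_coe s).trans (hs_card.trans hrk))).symm
  let z : Fin r → R := fun i => (e i : R)
  have hzs : Ideal.span (Set.range z) = maximalIdeal R := by
    rw [show Set.range z = (s : Set R) from by
      ext y; exact ⟨fun ⟨i, hi⟩ => hi ▸ (e i).2, fun hy => ⟨e.symm ⟨y, hy⟩, by simp [z]⟩⟩]
    exact hs
  have hzm : ∀ i, z i ∈ maximalIdeal R := fun i => hzs ▸ Ideal.subset_span ⟨i, rfl⟩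
  let w : Fin r → κ ⊗[R] Ω[R⁄k] := fun i => (1 : κ) ⊗ₜ KaehlerDifferential.D k R (z i)
  have hcot : LinearIndependent (ResidueField R)
      fun i => (maximalIdeal R).toCotangent ⟨z i, hzm i⟩ := by
    refine linearIndependent_of_top_le_span_of_card_eq_finrank ?_
      (by rw [Fintype.card_fin, ← hrk, spanFinrank_maximalIdeal_eq_finrank_cotangentSpace R])
    rw [show (Set.range fun i => (maximalIdeal R).toCotangent ⟨z i, hzm i⟩) =
      (maximalIdeal R).toCotangent '' (Set.range fun i => (⟨z i, hzm i⟩ : maximalIdeal R)) from
        Set.range_comp (maximalIdeal R).toCotangent _]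
    refine (CotangentSpace.span_image_eq_top_iff.mpr ?_).ge
    apply Submodule.map_injective_of_injective (f := (maximalIdeal R).subtype) Subtype.val_injective
    rw [Submodule.map_span, Submodule.map_subtype_top, ← Set.range_comp]
    exact hzs
  have hw : LinearIndependent κ w := by
    rw [Fintype.linearIndependent_iff]
    intro c hc i
    choose a ha using fun i => IsLocalRing.residue_surjective (R := R) (c i)
    have h0 : (1 : κ) ⊗ₜ[R] KaehlerDifferential.D k R (∑ i, a i * z i) = 0 := by
      rw [tmul_D_sum k p a z hzm, ← hc]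
      exact Finset.sum_congr rfl fun i _ => congrArg (fun t : κ => t • _) (ha i)
    have hmem : (∑ i, a i * z i) ∈ maximalIdeal R :=
      Ideal.sum_mem _ fun i _ => Ideal.mul_mem_left _ _ (hzm i)
    have h2 := mem_sq_of_tmul_eq_zero k p hmem h0
    have h3 : ∑ i, residue R (a i) • (maximalIdeal R).toCotangent ⟨z i, hzm i⟩ = 0 := by
      have h4 := (Ideal.toCotangent_eq_zero (maximalIdeal R) ⟨_, hmem⟩).mpr h2
      rw [show (⟨_, hmem⟩ : maximalIdeal R) = ∑ i, a i • (⟨z i, hzm i⟩ : maximalIdeal R) from
        Subtype.ext (by simp), map_sum] at h4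
      rw [← h4]
      exact Finset.sum_congr rfl fun i _ => by
        rw [map_smul]; exact IsScalarTower.algebraMap_smul _ _ _
    rw [← ha i]
    exact Fintype.linearIndependent_iff.mp hcot _ h3 i
  let π := KaehlerDifferential.mapBaseChange k R κ
  have hker : LinearMap.ker π = Submodule.span κ (Set.range w) := by
    refine le_antisymm (fun v hv => ?_) (Submodule.span_le.mpr ?_)
    · obtain ⟨y, hy, rfl⟩ := (mem_ker_iff k p v).mp hv
      rw [← hzs] at hy
      obtain ⟨a, ha⟩ := (Submodule.mem_span_range_iff_exists_fun R).mp hy
      simp only [smul_eq_mul] at ha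
      rw [← ha, tmul_D_sum k p a z hzm]
      exact Submodule.sum_mem _ fun i _ => Submodule.smul_mem _ _ (Submodule.subset_span ⟨i, rfl⟩)
    · rintro _ ⟨i, rfl⟩
      exact (mem_ker_iff k p _).mpr ⟨z i, hzm i, rfl⟩
  have hfin : Module.finrank κ (Ω[κ⁄k]) + r = n := by
    have hsurj : Function.Surjective π :=
      KaehlerDifferential.mapBaseChange_surjective k R κ IsLocalRing.residue_surjective
    have h := LinearMap.finrank_range_add_finrank_ker π
    rwa [LinearMap.range_eq_top.mpr hsurj, finrank_top, hker, finrank_span_eq_card hw,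
      Fintype.card_fin, Module.finrank_eq_card_basis (b.baseChange κ), Fintype.card_fin] at h
  haveI : Module.Finite κ (Ω[κ⁄k]) := Module.Finite.of_surjective π
    (KaehlerDifferential.mapBaseChange_surjective k R κ IsLocalRing.residue_surjective)
  obtain ⟨t, htD, htspan, htli⟩ :=
    exists_linearIndependent κ (Set.range (KaehlerDifferential.D k κ))
  rw [KaehlerDifferential.span_range_derivation] at htspan
  let bt : Module.Basis t κ (Ω[κ⁄k]) := Module.Basis.mk htli (by rw [Subtype.range_coe, htspan])
  haveI : Fintype t := FiniteDimensional.fintypeBasisIndex bt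
  have htcard : Fintype.card t = n - r := by
    rw [← Module.finrank_eq_card_basis bt]; omega
  let et : Fin (n - r) ≃ t := (Fintype.equivFinOfCardEq htcard).symm
  choose y hy using fun j => htD (et j).2
  choose y' hy' using fun j => IsLocalRing.residue_surjective (R := R) (y j)
  refine ⟨fun i => if h : (i : ℕ) < r then z ⟨i, h⟩ else y' ⟨i - r, by omega⟩, ?_, ?_⟩
  · rw [← hzs]
    congr 1
    ext v
    constructor
    · rintro ⟨i, hi, rfl⟩; exact ⟨⟨i, hi⟩, by simp [dif_pos (show (i : ℕ) < r from hi)]⟩
    · rintro ⟨i, rfl⟩
      exact ⟨⟨i, by omega⟩, i.2, by simp⟩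
  · rw [eq_top_iff, ← htspan, Submodule.span_le]
    intro v hv
    obtain ⟨j, hj⟩ := et.surjective ⟨v, hv⟩
    refine Submodule.subset_span ⟨⟨r + j, by omega⟩, Nat.le_add_right r j, ?_⟩
    have hnot : ¬ r + (j : ℕ) < r := by omega
    simp only [dif_neg hnot]
    rw [show (⟨r + (j : ℕ) - r, by omega⟩ : Fin (n - r)) = j from Fin.ext (by simp), hy' j, hy j, hj]

include hr in
/-- Bases of differentials give adapted systems. -/
theorem adapted_of_basis [Algebra.FormallySmooth k (Localization.AtPrime p)]
    (g : Fin n → Localization.AtPrime p)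
    (hg : ∀ i : Fin n, (i : ℕ) < r → g i ∈ maximalIdeal (Localization.AtPrime p))
    (hli : LinearIndependent (Localization.AtPrime p)
      fun i => KaehlerDifferential.D k (Localization.AtPrime p) (g i))
    (hsp : Submodule.span (Localization.AtPrime p)
      (Set.range fun i => KaehlerDifferential.D k (Localization.AtPrime p) (g i)) = ⊤) :
    Adapted k p r g := by
  classical
  let R := Localization.AtPrime p
  let κ := p.ResidueField
  haveI := isNoetherianRing_localization k p
  haveI : IsRegularLocalRing R := RegularOfSmooth.isRegularLocalRing k p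
  have hrn : r ≤ n := by
    by_contra hlt
    rw [not_le] at hlt
    have h := dimAt_eq k p hr
    haveI : Algebra.IsSmoothAt k p := ‹Algebra.FormallySmooth k (Localization.AtPrime p)›
    obtain ⟨b⟩ := exists_basis k p
    have := (Module.finrank_eq_card_basis b).symm.trans
      (Module.finrank_eq_card_basis (Module.Basis.mk hli hsp.ge))
    simp only [Fintype.card_fin] at this
    omega
  let bΩ : Module.Basis (Fin n) R (Ω[R⁄k]) := Module.Basis.mk hli hsp.ge
  let bW : Module.Basis (Fin n) κ (κ ⊗[R] Ω[R⁄k]) := bΩ.baseChange κ
  have hbW : ∀ i, bW i = (1 : κ) ⊗ₜ KaehlerDifferential.D k R (g i) := fun i => by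
    simp [bW, bΩ, Module.Basis.baseChange_apply]; rfl
  let z : Fin r → R := fun i => g ⟨i, by omega⟩
  have hzm : ∀ i, z i ∈ maximalIdeal R := fun i => hg _ i.2
  have hcot : LinearIndependent (ResidueField R)
      fun i => (maximalIdeal R).toCotangent ⟨z i, hzm i⟩ := by
    rw [Fintype.linearIndependent_iff]
    intro c hc i
    choose a ha using fun i => IsLocalRing.residue_surjective (R := R) (c i)
    have hmem : (∑ i, a i * z i) ∈ maximalIdeal R :=
      Ideal.sum_mem _ fun i _ => Ideal.mul_mem_left _ _ (hzm i)
    have h2 : (∑ i, a i * z i) ∈ maximalIdeal R ^ 2 := by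
      rw [← Ideal.toCotangent_eq_zero (maximalIdeal R) ⟨_, hmem⟩, ← hc,
        show (⟨_, hmem⟩ : maximalIdeal R) = ∑ i, a i • (⟨z i, hzm i⟩ : maximalIdeal R) from
          Subtype.ext (by simp), map_sum]
      exact Finset.sum_congr rfl fun i _ => by
        rw [map_smul, ← ha i]; exact (IsScalarTower.algebraMap_smul _ _ _).symm
    have h0 := tmul_D_sq k p h2
    rw [tmul_D_sum k p a z hzm] at h0
    have hsub : LinearIndependent κ fun i : Fin r => bW ⟨i, by omega⟩ :=
      bW.linearIndependent.comp _ fun i j hij => Fin.ext (congrArg (fun t : Fin n => (t : ℕ)) hij)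
    rw [← ha i]
    refine Fintype.linearIndependent_iff.mp hsub (fun i => residue R (a i)) ?_ i
    simp only [hbW]
    exact h0
  refine ⟨?_, ?_⟩
  · have htop := hcot.span_eq_top_of_card_eq_finrank' (by
      rw [Fintype.card_fin, ← spanFinrank_maximalIdeal_eq_finrank_cotangentSpace R]
      have h := IsRegularLocalRing.spanFinrank_maximalIdeal (R := R)
      rw [hr] at h
      exact_mod_cast h.symm)
    rw [show (Set.range fun i => (maximalIdeal R).toCotangent ⟨z i, hzm i⟩) =
      (maximalIdeal R).toCotangent '' (Set.range fun i => (⟨z i, hzm i⟩ : maximalIdeal R)) from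
        Set.range_comp (maximalIdeal R).toCotangent _] at htop
    have := congrArg (Submodule.map (maximalIdeal R).subtype)
      (CotangentSpace.span_image_eq_top_iff.mp htop)
    rw [Submodule.map_span, Submodule.map_subtype_top, ← Set.range_comp] at this
    refine Eq.trans ?_ this
    congr 1
    ext v
    constructor
    · rintro ⟨i, hi, rfl⟩; exact ⟨⟨i, hi⟩, rfl⟩
    · rintro ⟨i, rfl⟩; exact ⟨⟨i, by omega⟩, i.2, rfl⟩
  · rw [eq_top_iff]
    rintro v -
    obtain ⟨u, rfl⟩ := KaehlerDifferential.mapBaseChange_surjective k R κ
      IsLocalRing.residue_surjective v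
    have hu : u ∈ Submodule.span κ (Set.range bW) := bW.span_eq ▸ trivial
    induction hu using Submodule.span_induction with
    | mem u hu =>
      obtain ⟨i, rfl⟩ := hu
      rw [hbW, mapBaseChange_tmul_D]
      by_cases hi : (i : ℕ) < r
      · rw [(IsLocalRing.residue_eq_zero_iff _).mpr (hg i hi), map_zero]; exact zero_mem _
      · exact Submodule.subset_span ⟨i, not_lt.mp hi, rfl⟩
    | zero => rw [map_zero]; exact zero_mem _
    | add a b _ _ ha hb => rw [map_add]; exact add_mem ha hb
    | smul c a _ ha => rw [map_smul]; exact Submodule.smul_mem _ _ ha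

end Groth.Agent.Lib.JacCrit.ResidueDiff
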